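import Mathlib

/-!
# Symmetric cocycles into roots of unity split over the units of `ℂ`
-/

set_option linter.style.haveILetI false
set_option linter.unusedSectionVars false

namespace Cfsg.Agent.BlocksChars.IsaacsOdd

universe u

variable {B : Type u} [CommGroup B]

/-- The extension attached to a cocycle. -/
@[ext]
structure Tw (R : Type) (B : Type u) where
  z : R
  b : B

theorem exists_split [Finite B] (D : B → B → ℂˣ)
    (hco : ∀ a b c, D a b * D (a * b) c = D b c * D a (b * c)) (hsym : ∀ a b, D a b = D b a)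
    (hone : ∀ a, D 1 a = 1) {N : ℕ} (hN : N ≠ 0) (hpow : ∀ a b, D a b ^ N = 1) :
    ∃ μ : B → ℂˣ, μ 1 = 1 ∧ ∀ a b, μ a * μ b = D a b * μ (a * b) := by
  haveI := NeZero.mk hN
  let D' : B → B → rootsOfUnity N ℂ := fun a b => ⟨D a b, (mem_rootsOfUnity _ _).2 (hpow a b)⟩
  have hone' : ∀ a, D' 1 a = 1 := fun a => Subtype.ext (hone a)
  have hsym' : ∀ a b, D' a b = D' b a := fun a b => Subtype.ext (hsym a b)
  have hco' : ∀ a b c, D' a b * D' (a * b) c = D' b c * D' a (b * c) := fun a b c =>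
    Subtype.ext (hco a b c)
  letI : CommGroup (Tw (rootsOfUnity N ℂ) B) :=
    { mul := fun x y => ⟨x.z * y.z * D' x.b y.b, x.b * y.b⟩
      one := ⟨1, 1⟩
      inv := fun x => ⟨x.z⁻¹ * (D' x.b⁻¹ x.b)⁻¹, x.b⁻¹⟩
      mul_assoc := fun x y w => Tw.ext (by
        show x.z * y.z * D' x.b y.b * w.z * D' (x.b * y.b) w.b
          = x.z * (y.z * w.z * D' y.b w.b) * D' x.b (y.b * w.b)
        calc _ = x.z * y.z * w.z * (D' x.b y.b * D' (x.b * y.b) w.b) := by
              simp only [mul_assoc, mul_left_comm (D' x.b y.b)]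
          _ = x.z * y.z * w.z * (D' y.b w.b * D' x.b (y.b * w.b)) := by rw [hco']
          _ = _ := by simp only [mul_assoc]) (mul_assoc x.b y.b w.b)
      one_mul := fun x => Tw.ext (by
        show 1 * x.z * D' 1 x.b = x.z
        rw [hone', mul_one, one_mul]) (one_mul x.b)
      mul_one := fun x => Tw.ext (by
        show x.z * 1 * D' x.b 1 = x.z
        rw [hsym', hone', mul_one, mul_one]) (mul_one x.b)
      inv_mul_cancel := fun x => Tw.ext (by
        show x.z⁻¹ * (D' x.b⁻¹ x.b)⁻¹ * x.z * D' x.b⁻¹ x.b = 1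
        rw [mul_right_comm (x.z⁻¹), inv_mul_cancel, one_mul, inv_mul_cancel]) (inv_mul_cancel x.b)
      mul_comm := fun x y => Tw.ext (by
        show x.z * y.z * D' x.b y.b = y.z * x.z * D' y.b x.b
        rw [mul_comm x.z, hsym']) (mul_comm x.b y.b) }
  haveI : Finite (Tw (rootsOfUnity N ℂ) B) :=
    Finite.of_injective (fun x => (x.z, x.b)) fun x y h =>
      Tw.ext (congrArg Prod.fst h) (congrArg Prod.snd h)
  let ι : rootsOfUnity N ℂ →* Tw (rootsOfUnity N ℂ) B :=
    { toFun := fun z => ⟨z, 1⟩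
      map_one' := rfl
      map_mul' := fun z w => Tw.ext (by
        show z * w = z * w * D' 1 1
        rw [hone', mul_one]) (one_mul 1).symm }
  have hι : Function.Injective ι := fun z w h => congrArg Tw.z h
  let e := MonoidHom.ofInjective hι
  obtain ⟨ψ, hψ⟩ := MonoidHom.restrict_surjective (M := ℂ) ι.range
    ((rootsOfUnity N ℂ).subtype.comp e.symm.toMonoidHom)
  have hψι : ∀ z : rootsOfUnity N ℂ, ψ (ι z) = z := by
    intro z
    have h := DFunLike.congr_fun hψ (e z)
    simp only [MonoidHom.comp_apply, MulEquiv.coe_toMonoidHom, MulEquiv.symm_apply_apply] at h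
    exact h
  refine ⟨fun a => ψ ⟨1, a⟩, map_one ψ, fun a b => ?_⟩
  show ψ ⟨1, a⟩ * ψ ⟨1, b⟩ = D a b * ψ ⟨1, a * b⟩
  rw [← map_mul, show D a b = ψ (ι (D' a b)) from (hψι (D' a b)).symm, ← map_mul]
  congr 1
  exact Tw.ext (show (1 : rootsOfUnity N ℂ) * 1 * D' a b = D' a b * 1 * D' 1 (a * b) by
    rw [hone', one_mul, one_mul, mul_one, mul_one]) (one_mul (a * b)).symm

end Cfsg.Agent.BlocksChars.IsaacsOdd
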