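import Mathlib
import Cfsg.Agent.BlocksChars.Arc.Sixty

/-!
# Schur orthogonality as a frame identity

For an irreducible matrix representation `M` of `Γ` and linear functionals `X`, `Y` on matrices,
`∑ g, X (M g) * Y (M g⁻¹)` only depends on the pairing of `X` and `Y`.
-/

set_option linter.style.haveILetI false
set_option linter.unusedSectionVars false

namespace Cfsg.Agent.BlocksChars.IsaacsOdd

open Matrix Cfsg.Agent.Characters Cfsg.Agent.BlocksChars.Arc

universe u

variable {d : ℕ}

/-- The pairing of two functionals on matrices. -/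
noncomputable def pairing (X Y : Matrix (Fin d) (Fin d) ℂ →ₗ[ℂ] ℂ) : ℂ :=
  ∑ i, ∑ j, X (Matrix.single i j 1) * Y (Matrix.single j i 1)

theorem apply_eq_sum (X : Matrix (Fin d) (Fin d) ℂ →ₗ[ℂ] ℂ) (A : Matrix (Fin d) (Fin d) ℂ) :
    X A = ∑ i, ∑ j, A i j * X (Matrix.single i j 1) := by
  conv_lhs => rw [matrix_eq_sum_single A]
  simp only [map_sum]
  refine Finset.sum_congr rfl fun i _ => Finset.sum_congr rfl fun j _ => ?_
  rw [show Matrix.single i j (A i j) = A i j • Matrix.single i j (1 : ℂ) by
    rw [Matrix.smul_single, smul_eq_mul, mul_one], map_smul, smul_eq_mul]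

theorem pairing_left_right (X Y : Matrix (Fin d) (Fin d) ℂ →ₗ[ℂ] ℂ)
    (T T' : Matrix (Fin d) (Fin d) ℂ) (h : T * T' = 1) :
    pairing (X.comp (LinearMap.mulLeft ℂ T)) (Y.comp (LinearMap.mulRight ℂ T')) = pairing X Y := by
  have h' : T' * T = 1 := mul_eq_one_comm.1 h
  have e1 : ∀ i j, X (T * Matrix.single i j 1) = ∑ k, T k i * X (Matrix.single k j 1) := by
    intro i j
    rw [apply_eq_sum X]
    refine Finset.sum_congr rfl fun k _ => ?_
    rw [Finset.sum_eq_single j]
    · simp
    · intro l _ hl
      rw [Matrix.mul_apply, Finset.sum_eq_zero fun m _ => by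
        simp [Matrix.single_apply, hl.symm], zero_mul]
    · simp
  have e2 : ∀ i j, Y (Matrix.single j i 1 * T') = ∑ l, T' i l * Y (Matrix.single j l 1) := by
    intro i j
    rw [apply_eq_sum Y, Finset.sum_comm]
    refine Finset.sum_congr rfl fun l _ => ?_
    rw [Finset.sum_eq_single j]
    · simp
    · intro k _ hk
      rw [Matrix.mul_apply, Finset.sum_eq_zero fun m _ => by
        simp [Matrix.single_apply, hk.symm], zero_mul]
    · simp
  simp only [pairing, LinearMap.comp_apply, LinearMap.mulLeft_apply, LinearMap.mulRight_apply, e1,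
    e2, Finset.sum_mul_sum]
  rw [Finset.sum_comm]
  conv_rhs => rw [Finset.sum_comm]
  refine Finset.sum_congr rfl fun j _ => ?_
  rw [Finset.sum_comm]
  refine Finset.sum_congr rfl fun k _ => ?_
  rw [Finset.sum_comm, Finset.sum_eq_single k]
  · rw [Finset.sum_congr rfl (g := fun i => (T k i * T' i k) *
        (X (Matrix.single k j 1) * Y (Matrix.single j k 1))) fun i _ => by ring,
      ← Finset.sum_mul, ← Matrix.mul_apply, h, Matrix.one_apply_eq, one_mul]
  · intro l _ hl
    rw [Finset.sum_congr rfl (g := fun i => (T k i * T' i l) *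
        (X (Matrix.single k j 1) * Y (Matrix.single j l 1))) fun i _ => by ring,
      ← Finset.sum_mul, ← Matrix.mul_apply, h, Matrix.one_apply_ne hl.symm, zero_mul]
  · simp

variable {Γ : Type u} [Group Γ] [Finite Γ] (M : Γ →* Matrix (Fin d) (Fin d) ℂ) {χ : Γ → ℂ}
  (hχ : Cfsg.IsIrrCharacter Γ χ) (htr : ∀ g, (M g).trace = χ g)

include hχ htr in
theorem dim_ne_zero : d ≠ 0 := fun h => by
  have := irr_one_ne_zero hχ
  rw [← htr, map_one, Matrix.trace_one, Fintype.card_fin, h, Nat.cast_zero] at this
  exact this rfl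

include hχ htr in
/-- Averaging over an irreducible representation gives a scalar. -/
theorem average_eq [Fintype Γ] (X : Matrix (Fin d) (Fin d) ℂ) :
    ∑ g, M g * X * M g⁻¹ = ((Fintype.card Γ : ℂ) * X.trace / d) • 1 := by
  have hcomm : ∀ h, M h * (∑ g, M g * X * M g⁻¹) = (∑ g, M g * X * M g⁻¹) * M h := by
    intro h
    rw [Finset.mul_sum, Finset.sum_mul]
    refine Fintype.sum_equiv (Equiv.mulLeft h) _ _ fun g => ?_
    rw [Equiv.coe_mulLeft, _root_.mul_inv_rev, map_mul, map_mul]
    simp only [Matrix.mul_assoc]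
    rw [← map_mul M h⁻¹ h, inv_mul_cancel, map_one, Matrix.mul_one]
  obtain ⟨c, hc⟩ := eq_smul_one_of_commute M hχ htr hcomm
  have ht := congrArg Matrix.trace hc
  rw [trace_sum, trace_smul, trace_one, Fintype.card_fin, smul_eq_mul,
    Finset.sum_congr rfl (g := fun _ => X.trace) fun g _ => by
      rw [Matrix.trace_mul_comm, ← Matrix.mul_assoc, ← map_mul, inv_mul_cancel, map_one,
        Matrix.one_mul], Finset.sum_const, Finset.card_univ, nsmul_eq_mul] at ht
  rw [hc, ht, mul_div_cancel_right₀ _ (Nat.cast_ne_zero.2 (dim_ne_zero M hχ htr))]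

omit [Finite Γ] in
/-- Schur orthogonality from an averaging identity. -/
theorem frame_of_average {I : Type*} [Fintype I] (F F' : I → Matrix (Fin d) (Fin d) ℂ) (c : ℂ)
    (hav : ∀ Z, ∑ g, F g * Z * F' g = (c * Z.trace) • 1)
    (X Y : Matrix (Fin d) (Fin d) ℂ →ₗ[ℂ] ℂ) :
    ∑ g, X (F g) * Y (F' g) = c * pairing X Y := by
  have horth : ∀ i j k l, ∑ g, F g i j * F' g k l
      = if i = l ∧ j = k then c else 0 := by
    intro i j k l
    have h := congrFun (congrFun (hav (Matrix.single j k 1)) i) l
    rw [Matrix.sum_apply, Matrix.smul_apply, Matrix.one_apply, smul_eq_mul] at h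
    refine Eq.trans (Finset.sum_congr rfl fun g _ => ?_) (h.trans ?_)
    · rw [Matrix.mul_apply, Finset.sum_eq_single k]
      · rw [Matrix.mul_single_apply_same, mul_one]
      · intro m _ hm
        simp [Matrix.mul_apply, Matrix.single_apply, hm.symm]
      · simp
    · by_cases hjk : j = k
      · subst hjk
        rw [Matrix.trace_single_eq_same]
        simp
      · rw [Matrix.trace_single_eq_of_ne _ _ _ hjk]
        simp [hjk]
  calc ∑ g, X (F g) * Y (F' g)
      = ∑ g, ∑ i, ∑ j, ∑ k, ∑ l, (F g i j * F' g k l) *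
          (X (Matrix.single i j 1) * Y (Matrix.single k l 1)) := by
        refine Finset.sum_congr rfl fun g _ => ?_
        rw [apply_eq_sum X, apply_eq_sum Y, Finset.sum_mul]
        refine Finset.sum_congr rfl fun i _ => ?_
        rw [Finset.sum_mul]
        refine Finset.sum_congr rfl fun j _ => ?_
        rw [Finset.mul_sum]
        refine Finset.sum_congr rfl fun k _ => ?_
        rw [Finset.mul_sum]
        refine Finset.sum_congr rfl fun l _ => ?_
        ring
    _ = ∑ i, ∑ j, ∑ k, ∑ l, (∑ g, F g i j * F' g k l) *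
          (X (Matrix.single i j 1) * Y (Matrix.single k l 1)) := by
        simp only [Finset.sum_mul]
        rw [Finset.sum_comm]
        refine Finset.sum_congr rfl fun i _ => ?_
        rw [Finset.sum_comm]
        refine Finset.sum_congr rfl fun j _ => ?_
        rw [Finset.sum_comm]
        exact Finset.sum_congr rfl fun k _ => Finset.sum_comm
    _ = _ := by
        rw [pairing, Finset.mul_sum]
        refine Finset.sum_congr rfl fun i _ => ?_
        rw [Finset.mul_sum]
        refine Finset.sum_congr rfl fun j _ => ?_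
        rw [Finset.sum_eq_single j, Finset.sum_eq_single i]
        · rw [horth, if_pos ⟨rfl, rfl⟩]
        · intro l _ hl; rw [horth, if_neg (fun h => hl h.1.symm), zero_mul]
        · simp
        · intro k _ hk
          exact Finset.sum_eq_zero fun l _ => by rw [horth, if_neg (fun h => hk h.2.symm), zero_mul]
        · simp

include hχ htr in
/-- Schur orthogonality. -/
theorem frame [Fintype Γ] (X Y : Matrix (Fin d) (Fin d) ℂ →ₗ[ℂ] ℂ) :
    ∑ g, X (M g) * Y (M g⁻¹) = (Fintype.card Γ : ℂ) / d * pairing X Y :=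
  frame_of_average (fun g => M g) (fun g => M g⁻¹) _
    (fun Z => by rw [average_eq M hχ htr, div_mul_eq_mul_div]) X Y

include hχ htr in
/-- An irreducible representation spans the matrix algebra. -/
theorem span_eq_top : Submodule.span ℂ (Set.range M) = ⊤ := by
  by_contra h
  haveI := Fintype.ofFinite Γ
  obtain ⟨X, hX0, hX⟩ := Submodule.exists_le_ker_of_lt_top _ (lt_top_iff_ne_top.2 h)
  refine hX0 (LinearMap.ext fun A => ?_)
  rw [apply_eq_sum X, LinearMap.zero_apply]
  refine Finset.sum_eq_zero fun i _ => Finset.sum_eq_zero fun j _ => ?_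
  let Y : Matrix (Fin d) (Fin d) ℂ →ₗ[ℂ] ℂ :=
    { toFun := fun B => B j i, map_add' := fun _ _ => rfl, map_smul' := fun _ _ => rfl }
  have hp : pairing X Y = X (Matrix.single i j 1) := by
    rw [pairing, Finset.sum_eq_single i, Finset.sum_eq_single j]
    · show _ * Matrix.single j i (1 : ℂ) j i = _
      rw [Matrix.single_apply_same, mul_one]
    · intro l _ hl
      show _ * Matrix.single l i (1 : ℂ) j i = _
      simp [Matrix.single_apply, hl]
    · simp
    · intro k _ hk
      refine Finset.sum_eq_zero fun l _ => ?_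
      show _ * Matrix.single l k (1 : ℂ) j i = _
      simp [Matrix.single_apply, hk]
    · simp
  have h0 : ∀ g, X (M g) = 0 := fun g => hX (Submodule.subset_span ⟨g, rfl⟩)
  have hf := frame M hχ htr X Y
  simp only [h0, zero_mul, Finset.sum_const_zero, hp] at hf
  have hne : (Fintype.card Γ : ℂ) / d ≠ 0 :=
    div_ne_zero (Nat.cast_ne_zero.2 Fintype.card_ne_zero)
      (Nat.cast_ne_zero.2 (dim_ne_zero M hχ htr))
  rw [(mul_eq_zero.1 hf.symm).resolve_left hne, mul_zero]

end Cfsg.Agent.BlocksChars.IsaacsOdd
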