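import Mathlib
import Cfsg.Agent.BlocksChars.IsaacsOdd.Frame
import Cfsg.Agent.Lib.CharP.JordanBound

/-!
# Weight vectors in the commutant of a normal subgroup with abelian quotient

For an irreducible `Θ` of `K` and `π : K → A` abelian, the commutant of the kernel is spanned by
invertible elements indexed by a subgroup of the dual of `A`.
-/

set_option linter.style.haveILetI false
set_option linter.unusedSectionVars false

namespace Cfsg.Agent.BlocksChars.IsaacsOdd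

open Matrix Cfsg.Agent.Characters Cfsg.Agent.BlocksChars.Arc

universe u

variable {d : ℕ} {K A : Type u} [Group K] [Finite K] [CommGroup A] [Finite A]
  (Θ : K →* Matrix (Fin d) (Fin d) ℂ) (π : K →* A) {θ : K → ℂ}
  (hθ : Cfsg.IsIrrCharacter K θ) (htr : ∀ k, (Θ k).trace = θ k)

theorem conj_cancel (k : K) : Θ k⁻¹ * Θ k = 1 := by rw [← map_mul, inv_mul_cancel, map_one]

theorem conj_cancel' (k : K) : Θ k * Θ k⁻¹ = 1 := by rw [← map_mul, mul_inv_cancel, map_one]

/-- Commuting with the kernel. -/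
def Com (X : Matrix (Fin d) (Fin d) ℂ) : Prop := ∀ k ∈ π.ker, Θ k * X = X * Θ k

/-- A weight vector. -/
def Wt (lam : A →* ℂˣ) (X : Matrix (Fin d) (Fin d) ℂ) : Prop :=
  ∀ k, Θ k * X * Θ k⁻¹ = (lam (π k) : ℂ) • X

variable {Θ π}

theorem Wt.com {lam : A →* ℂˣ} {X : Matrix (Fin d) (Fin d) ℂ} (h : Wt Θ π lam X) : Com Θ π X := by
  intro k hk
  have h1 := h k
  rw [MonoidHom.mem_ker.1 hk, map_one, Units.val_one, one_smul] at h1
  conv_rhs => rw [← h1]
  rw [Matrix.mul_assoc, conj_cancel, Matrix.mul_one]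

theorem Wt.mul {lam mu : A →* ℂˣ} {X Y : Matrix (Fin d) (Fin d) ℂ} (h : Wt Θ π lam X)
    (h' : Wt Θ π mu Y) : Wt Θ π (lam * mu) (X * Y) := by
  intro k
  rw [MonoidHom.mul_apply, Units.val_mul, mul_smul, ← Matrix.mul_smul, ← h' k,
    ← Matrix.smul_mul, ← h k]
  simp only [Matrix.mul_assoc]
  rw [← Matrix.mul_assoc (Θ k⁻¹) (Θ k), conj_cancel, Matrix.one_mul]

theorem wt_one : Wt Θ π 1 1 := fun k => by
  rw [Matrix.mul_one, conj_cancel', MonoidHom.one_apply, Units.val_one, one_smul]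

theorem Wt.smul {lam : A →* ℂˣ} {X : Matrix (Fin d) (Fin d) ℂ} (h : Wt Θ π lam X) (c : ℂ) :
    Wt Θ π lam (c • X) := fun k => by
  rw [Matrix.mul_smul, Matrix.smul_mul, h k, smul_comm]

theorem Wt.of_inv {lam : A →* ℂˣ} {X Y : Matrix (Fin d) (Fin d) ℂ} (h : Wt Θ π lam X)
    (hXY : X * Y = 1) : Wt Θ π lam⁻¹ Y := by
  intro k
  have hYX : Y * X = 1 := mul_eq_one_comm.1 hXY
  have h1 : (Θ k * X * Θ k⁻¹) * (Θ k * Y * Θ k⁻¹) = 1 := by
    simp only [Matrix.mul_assoc]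
    rw [← Matrix.mul_assoc (Θ k⁻¹) (Θ k), conj_cancel, Matrix.one_mul, ← Matrix.mul_assoc X Y,
      hXY, Matrix.one_mul, conj_cancel']
  rw [h k, Matrix.smul_mul] at h1
  have h2 := congrArg (fun Z => ((lam (π k))⁻¹ : ℂˣ) • (Y * Z)) h1
  simp only [Units.smul_def, Matrix.mul_smul, Matrix.mul_one, ← Matrix.mul_assoc, hYX,
    Matrix.one_mul, smul_smul, Units.inv_mul, one_smul] at h2
  rw [h2, MonoidHom.inv_apply]

theorem Wt.trace_eq_zero (hπ : Function.Surjective π) {lam : A →* ℂˣ}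
    {X : Matrix (Fin d) (Fin d) ℂ} (h : Wt Θ π lam X) (hne : lam ≠ 1) : X.trace = 0 := by
  obtain ⟨a, ha⟩ := DFunLike.ne_iff.1 hne
  obtain ⟨k, rfl⟩ := hπ a
  have h1 := congrArg Matrix.trace (h k)
  rw [Matrix.trace_mul_comm, ← Matrix.mul_assoc, conj_cancel, Matrix.one_mul, trace_smul,
    smul_eq_mul] at h1
  by_contra h0
  refine ha (Units.ext ?_)
  rw [MonoidHom.one_apply, Units.val_one]
  exact mul_right_cancel₀ h0 (by rw [one_mul]; exact h1.symm)

include hθ htr in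
/-- A nonzero weight vector is invertible. -/
theorem Wt.det_ne_zero {lam : A →* ℂˣ} {X : Matrix (Fin d) (Fin d) ℂ} (h : Wt Θ π lam X)
    (hX : X ≠ 0) : X.det ≠ 0 := by
  intro h0
  haveI := Fintype.ofFinite K
  obtain ⟨v, hv, hXv⟩ := Matrix.exists_mulVec_eq_zero_iff.2 h0
  have hk : ∀ k, X *ᵥ (Θ k *ᵥ v) = 0 := by
    intro k
    have h1 : Θ k * X = (lam (π k) : ℂ) • (X * Θ k) := by
      have := congrArg (· * Θ k) (h k)
      simpa only [Matrix.mul_assoc, conj_cancel, Matrix.mul_one, Matrix.smul_mul] using this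
    have h2 : Θ k *ᵥ (X *ᵥ v) = (lam (π k) : ℂ) • (X *ᵥ (Θ k *ᵥ v)) := by
      rw [Matrix.mulVec_mulVec, h1, Matrix.smul_mulVec, Matrix.mulVec_mulVec]
    rw [hXv, Matrix.mulVec_zero] at h2
    exact (smul_eq_zero.1 h2.symm).resolve_left (Units.ne_zero _)
  obtain ⟨i, hi⟩ : ∃ i, v i ≠ 0 := Function.ne_iff.1 hv
  set Q : Matrix (Fin d) (Fin d) ℂ := Matrix.vecMulVec v (Pi.single i 1) with hQ
  have hQt : Q.trace = v i := by
    rw [hQ, Matrix.trace_vecMulVec]
    simp [dotProduct, Pi.single_apply]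
  have hXQ : X * (∑ k, Θ k * Q * Θ k⁻¹) = 0 := by
    rw [Finset.mul_sum]
    refine Finset.sum_eq_zero fun k _ => ?_
    rw [hQ, Matrix.mul_vecMulVec, ← Matrix.mul_assoc, Matrix.mul_vecMulVec, hk]
    simp [Matrix.zero_vecMulVec]
  rw [average_eq Θ hθ htr, Matrix.mul_smul, Matrix.mul_one, smul_eq_zero, hQt] at hXQ
  refine hX (hXQ.resolve_left ?_)
  exact div_ne_zero (mul_ne_zero (Nat.cast_ne_zero.2 Fintype.card_ne_zero) hi)
    (Nat.cast_ne_zero.2 (dim_ne_zero Θ hθ htr))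

include hθ htr in
theorem Wt.eq_smul {lam : A →* ℂˣ} {X Y : Matrix (Fin d) (Fin d) ℂ} (h : Wt Θ π lam X)
    (hX : X ≠ 0) (h' : Wt Θ π lam Y) : ∃ c : ℂ, Y = c • X := by
  have hdet : IsUnit X.det := isUnit_iff_ne_zero.2 (h.det_ne_zero hθ htr hX)
  have hi : Wt Θ π 1 (X⁻¹ * Y) := by
    have := (h.of_inv (Matrix.mul_nonsing_inv X hdet)).mul h'
    exact (congrArg (fun l => Wt Θ π l (X⁻¹ * Y)) (inv_mul_cancel lam)).mp this
  obtain ⟨c, hc⟩ := eq_smul_one_of_commute Θ hθ htr (Y := X⁻¹ * Y) fun k => by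
    have h1 := hi k
    rw [MonoidHom.one_apply, Units.val_one, one_smul] at h1
    conv_rhs => rw [← h1]
    rw [Matrix.mul_assoc _ (Θ k⁻¹), conj_cancel, Matrix.mul_one]
  refine ⟨c, ?_⟩
  have := congrArg (X * ·) hc
  simpa only [← Matrix.mul_assoc, Matrix.mul_nonsing_inv X hdet, Matrix.one_mul, Matrix.mul_smul,
    Matrix.mul_one] using this

variable (Θ π)

/-- The weights that occur. -/
def weights : Subgroup (A →* ℂˣ) where
  carrier := {lam | ∃ X, X.det ≠ 0 ∧ Wt Θ π lam X}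
  one_mem' := ⟨1, by simp, wt_one⟩
  mul_mem' := fun {a b} ⟨X, hX, hX'⟩ ⟨Y, hY, hY'⟩ =>
    ⟨X * Y, by rw [Matrix.det_mul]; exact mul_ne_zero hX hY, hX'.mul hY'⟩
  inv_mem' := fun {a} ⟨X, hX, hX'⟩ => ⟨X⁻¹, by
    rw [Matrix.det_nonsing_inv, Ring.inverse_eq_inv']; exact inv_ne_zero hX,
    hX'.of_inv (Matrix.mul_nonsing_inv X (isUnit_iff_ne_zero.2 hX))⟩

/-- The averaging projection onto a weight space. -/
noncomputable def wproj [Fintype K] (lam : A →* ℂˣ) :
    Matrix (Fin d) (Fin d) ℂ →ₗ[ℂ] Matrix (Fin d) (Fin d) ℂ :=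
  (Fintype.card K : ℂ)⁻¹ • ∑ k : K, (lam (π k)⁻¹ : ℂ) •
    ((LinearMap.mulLeft ℂ (Θ k)).comp (LinearMap.mulRight ℂ (Θ k⁻¹)))

theorem wproj_apply [Fintype K] (lam : A →* ℂˣ) (X : Matrix (Fin d) (Fin d) ℂ) :
    wproj Θ π lam X =
      (Fintype.card K : ℂ)⁻¹ • ∑ k : K, (lam (π k)⁻¹ : ℂ) • (Θ k * X * Θ k⁻¹) := by
  simp [wproj, Matrix.mul_assoc]

theorem wt_wproj [Fintype K] (lam : A →* ℂˣ) (X : Matrix (Fin d) (Fin d) ℂ) :
    Wt Θ π lam (wproj Θ π lam X) := by
  intro j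
  rw [wproj_apply, Matrix.mul_smul, Matrix.smul_mul, smul_comm ((lam (π j)) : ℂ)]
  congr 1
  rw [Finset.mul_sum, Finset.sum_mul, Finset.smul_sum]
  refine Fintype.sum_equiv (Equiv.mulLeft j) _ _ fun k => ?_
  rw [Equiv.coe_mulLeft, Matrix.mul_smul, Matrix.smul_mul, smul_smul, _root_.mul_inv_rev, map_mul,
    map_mul Θ, map_mul Θ]
  congr 1
  · rw [_root_.mul_inv_rev, map_mul, Units.val_mul, mul_comm ((lam (π k)⁻¹ : ℂˣ) : ℂ),
      ← mul_assoc, ← Units.val_mul, ← map_mul, mul_inv_cancel, map_one, Units.val_one, one_mul]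
  · simp only [Matrix.mul_assoc]

variable {Θ π}

theorem Wt.wproj_eq [Fintype K] [DecidableEq (A →* ℂˣ)] (hπ : Function.Surjective π)
    {lam : A →* ℂˣ} {X : Matrix (Fin d) (Fin d) ℂ} (h : Wt Θ π lam X) (mu : A →* ℂˣ) :
    wproj Θ π mu X = if mu = lam then X else 0 := by
  rw [wproj_apply]
  simp only [h _, smul_smul, ← Finset.sum_smul]
  split_ifs with hml
  · subst hml
    rw [Finset.sum_congr rfl fun k _ => by
      rw [← Units.val_mul, ← map_mul, inv_mul_cancel, map_one, Units.val_one]]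
    rw [Finset.sum_const, Finset.card_univ, nsmul_eq_mul, mul_one,
      inv_mul_cancel₀ (Nat.cast_ne_zero.2 Fintype.card_ne_zero), one_smul]
  · obtain ⟨a, ha⟩ := DFunLike.ne_iff.1 hml
    obtain ⟨j, rfl⟩ := hπ a
    set S : ℂ := ∑ k : K, (mu (π k)⁻¹ : ℂ) * (lam (π k) : ℂ) with hS
    have e : ((mu (π j)⁻¹ : ℂ) * (lam (π j) : ℂ)) * S = S := by
      rw [hS, Finset.mul_sum]
      refine Fintype.sum_equiv (Equiv.mulLeft j) _ _ fun k => ?_
      rw [Equiv.coe_mulLeft, map_mul, _root_.mul_inv_rev, map_mul, map_mul, Units.val_mul,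
        Units.val_mul]
      ring
    have h0 : S = 0 := by
      by_contra h0
      refine ha (Units.ext ?_)
      have h1 : (mu (π j)⁻¹ : ℂ) * (lam (π j) : ℂ) = 1 :=
        mul_right_cancel₀ h0 (e.trans (one_mul S).symm)
      rw [← Units.val_mul, Units.val_eq_one, map_inv, inv_mul_eq_one] at h1
      rw [h1]
    rw [h0, mul_zero, zero_smul]

theorem sum_wproj [Fintype K] [Fintype (A →* ℂˣ)] [Fintype π.ker] (hπ : Function.Surjective π)
    (X : Matrix (Fin d) (Fin d) ℂ) :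
    ∑ lam, wproj Θ π lam X =
      (Fintype.card π.ker : ℂ)⁻¹ • ∑ l : π.ker, Θ (l : K) * X * Θ (l : K)⁻¹ := by
  classical
  haveI := Fintype.ofFinite A
  simp only [wproj_apply, ← Finset.smul_sum]
  rw [Finset.sum_comm]
  simp only [← Finset.sum_smul]
  have hs : ∀ k : K, ∑ lam : A →* ℂˣ, (lam (π k)⁻¹ : ℂ)
      = if π k = 1 then (Fintype.card A : ℂ) else 0 := fun k => by
    have e := Cfsg.Agent.CharP.JordanBound.sum_dual (π k)⁻¹
    simp only [inv_eq_one] at e
    exact Eq.trans (Finset.sum_congr (Finset.ext fun _ => by simp) fun _ _ => rfl) e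
  simp only [hs, ite_smul, zero_smul]
  rw [← Finset.sum_filter, ← Finset.smul_sum, smul_smul, Finset.sum_subtype _
    (p := fun k => k ∈ π.ker) (fun k => by simp [MonoidHom.mem_ker])]
  congr 1
  have hcard : Fintype.card A * Fintype.card π.ker = Fintype.card K := by
    rw [← Nat.card_eq_fintype_card, ← Nat.card_eq_fintype_card, ← Nat.card_eq_fintype_card,
      ← Subgroup.index_mul_card π.ker, Subgroup.index_ker,
      Nat.card_congr ((Equiv.subtypeUnivEquiv fun a => MonoidHom.mem_range.2 (hπ a)))]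
  rw [← hcard, Nat.cast_mul, mul_inv, mul_right_comm,
    inv_mul_cancel₀ (Nat.cast_ne_zero.2 Fintype.card_ne_zero), one_mul]

theorem trace_conj_map (U V : Matrix (Fin d) (Fin d) ℂ) :
    LinearMap.trace ℂ _ ((LinearMap.mulLeft ℂ U).comp (LinearMap.mulRight ℂ V)) =
      U.trace * V.trace := by
  rw [LinearMap.trace_eq_matrix_trace ℂ (Matrix.stdBasis ℂ (Fin d) (Fin d)), Matrix.trace,
    Matrix.trace, Matrix.trace, Fintype.sum_prod_type, Finset.sum_mul_sum]
  refine Finset.sum_congr rfl fun i _ => Finset.sum_congr rfl fun j _ => ?_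
  rw [Matrix.diag_apply, LinearMap.toMatrix_apply, Matrix.stdBasis_eq_single]
  simp [Matrix.stdBasis, Matrix.mul_apply, Matrix.single_apply, ite_and]

include hθ htr in
/-- A normalised choice of weight vectors. -/
theorem exists_basis [Fintype K] (hπ : Function.Surjective π) :
    ∃ E : weights Θ π → Matrix (Fin d) (Fin d) ℂ, E 1 = 1 ∧
      (∀ b, (E b).det = 1 ∧ Wt Θ π (b : A →* ℂˣ) (E b)) ∧
      ∀ X, Com Θ π X → ∀ [Fintype (weights Θ π)], ∃ y : weights Θ π → ℂ, X = ∑ b, y b • E b := by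
  classical
  have hd := dim_ne_zero Θ hθ htr
  haveI : Nonempty (Fin d) := Fin.pos_iff_nonempty.1 (Nat.pos_of_ne_zero hd)
  have hex : ∀ b : weights Θ π, ∃ X : Matrix (Fin d) (Fin d) ℂ,
      X.det = 1 ∧ Wt Θ π (b : A →* ℂˣ) X ∧ (b = 1 → X = 1) := by
    intro b
    by_cases hb : b = 1
    · subst hb
      exact ⟨1, Matrix.det_one, wt_one, fun _ => rfl⟩
    obtain ⟨X, hX, hw⟩ := b.2
    obtain ⟨c, hc⟩ := IsAlgClosed.exists_pow_nat_eq (X.det)⁻¹ (Nat.pos_of_ne_zero hd)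
    refine ⟨c • X, ?_, hw.smul c, fun h => absurd h hb⟩
    rw [Matrix.det_smul, Fintype.card_fin, hc, inv_mul_cancel₀ hX]
  choose E hdet hwt hone using hex
  refine ⟨E, hone 1 rfl, fun b => ⟨hdet b, hwt b⟩, fun X hX => ?_⟩
  intro inst
  haveI : Finite (A →* ℂˣ) := inferInstance
  haveI := Fintype.ofFinite (A →* ℂˣ)
  haveI := Fintype.ofFinite π.ker
  have hXe : X = ∑ lam, wproj Θ π lam X := by
    rw [sum_wproj hπ, Finset.sum_congr rfl (g := fun _ => X) fun l _ => by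
      rw [hX l l.2, Matrix.mul_assoc, conj_cancel', Matrix.mul_one], Finset.sum_const,
      Finset.card_univ, ← Nat.cast_smul_eq_nsmul ℂ, smul_smul,
      inv_mul_cancel₀ (Nat.cast_ne_zero.2 Fintype.card_ne_zero), one_smul]
  have hE0 : ∀ b, E b ≠ 0 := fun b h => by
    have := hdet b
    rw [h, Matrix.det_zero] at this
    exact zero_ne_one this
  choose y hy using fun b : weights Θ π =>
    (hwt b).eq_smul hθ htr (hE0 b) (wt_wproj Θ π (b : A →* ℂˣ) X)
  refine ⟨y, ?_⟩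
  simp only [← hy]
  conv_lhs => rw [hXe]
  symm
  refine Finset.sum_bij_ne_zero (fun b _ _ => (b : A →* ℂˣ)) (fun _ _ _ => Finset.mem_univ _)
    (fun _ _ _ _ _ _ h => Subtype.ext h) (fun lam _ hne => ?_) (fun _ _ _ => rfl)
  exact ⟨⟨lam, _, (wt_wproj Θ π lam X).det_ne_zero hθ htr hne, wt_wproj Θ π lam X⟩,
    Finset.mem_univ _, hne, rfl⟩

include hθ htr in
/-- The number of weights is the norm of the restriction to the kernel. -/
theorem card_weights [Fintype K] [Fintype π.ker] (hπ : Function.Surjective π) :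
    (Nat.card (weights Θ π) : ℂ) =
      (Fintype.card π.ker : ℂ)⁻¹ * ∑ l : π.ker, θ l * θ (l : K)⁻¹ := by
  classical
  haveI := Fintype.ofFinite (A →* ℂˣ)
  haveI := Fintype.ofFinite (weights Θ π)
  have hd := dim_ne_zero Θ hθ htr
  haveI : Nonempty (Fin d) := Fin.pos_iff_nonempty.1 (Nat.pos_of_ne_zero hd)
  have hP : (∑ lam, wproj Θ π lam) = (Fintype.card π.ker : ℂ)⁻¹ • ∑ l : π.ker,
      (LinearMap.mulLeft ℂ (Θ (l : K))).comp (LinearMap.mulRight ℂ (Θ (l : K)⁻¹)) := by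
    refine LinearMap.ext fun X => ?_
    rw [LinearMap.sum_apply, sum_wproj hπ]
    simp [Matrix.mul_assoc]
  have h := congrArg (LinearMap.trace ℂ _) hP
  rw [map_sum, map_smul, map_sum] at h
  simp only [trace_conj_map, htr] at h
  rw [← smul_eq_mul, ← h]
  have key : ∀ lam, LinearMap.trace ℂ _ (wproj Θ π lam) = if lam ∈ weights Θ π then 1 else 0 := by
    intro lam
    split_ifs with hl
    · obtain ⟨E, hE, hw⟩ := hl
      have hE0 : E ≠ 0 := fun h0 => hE (by rw [h0, Matrix.det_zero])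
      let ψ : Matrix (Fin d) (Fin d) ℂ →ₗ[ℂ] ℂ :=
        ((d : ℂ)⁻¹ • Matrix.traceLinearMap (Fin d) ℂ ℂ).comp
          ((LinearMap.mulLeft ℂ E⁻¹).comp (wproj Θ π lam))
      have hsm : wproj Θ π lam = ψ.smulRight E := by
        refine LinearMap.ext fun X => ?_
        obtain ⟨c, hc⟩ := hw.eq_smul hθ htr hE0 (wt_wproj Θ π lam X)
        show wproj Θ π lam X = ψ X • E
        simp only [ψ, LinearMap.comp_apply, LinearMap.smul_apply, LinearMap.mulLeft_apply,
          Matrix.traceLinearMap_apply, smul_eq_mul]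
        rw [hc, Matrix.mul_smul, Matrix.nonsing_inv_mul _ (isUnit_iff_ne_zero.2 hE), trace_smul,
          trace_one, Fintype.card_fin, smul_eq_mul, mul_comm c,
          inv_mul_cancel_left₀ (Nat.cast_ne_zero.2 hd)]
      rw [hsm, LinearMap.trace_smulRight]
      simp only [ψ, LinearMap.comp_apply, LinearMap.smul_apply, LinearMap.mulLeft_apply,
        Matrix.traceLinearMap_apply, smul_eq_mul]
      rw [hw.wproj_eq hπ, if_pos rfl, Matrix.nonsing_inv_mul _ (isUnit_iff_ne_zero.2 hE), trace_one,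
        Fintype.card_fin, inv_mul_cancel₀ (Nat.cast_ne_zero.2 hd)]
    · rw [show wproj Θ π lam = 0 from LinearMap.ext fun X => by
        by_contra h0
        exact hl ⟨_, (wt_wproj Θ π lam X).det_ne_zero hθ htr h0, wt_wproj Θ π lam X⟩, map_zero]
  rw [Finset.sum_congr rfl fun lam _ => key lam, Finset.sum_boole, Nat.card_eq_fintype_card,
    Fintype.card_subtype]

end Cfsg.Agent.BlocksChars.IsaacsOdd
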