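import Mathlib
import Cfsg.Agent.BlocksChars.IsaacsOdd.Weights
import Cfsg.Agent.BlocksChars.IsaacsOdd.Split
import Cfsg.Agent.Lib.CharTheory.HomCentralizer

/-!
# The parity operators of an odd Heisenberg system

In the commutant the normalised weight vectors multiply by an alternating bicharacter; the sum of
all of them, scaled, is an involution inverting every one of them, and any other such involution
of the same trace is conjugate to it by a weight vector.
-/

set_option linter.style.haveILetI false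
set_option linter.unusedSectionVars false

namespace Cfsg.Agent.BlocksChars.IsaacsOdd

open Matrix Cfsg.Agent.Characters Cfsg.Agent.BlocksChars.Arc

universe u

variable {d : ℕ} {K A : Type u} [Group K] [Finite K] [CommGroup A] [Finite A]
  {Θ : K →* Matrix (Fin d) (Fin d) ℂ} {π : K →* A}

/-- Normalised weight vectors. -/
structure Sys (Θ : K →* Matrix (Fin d) (Fin d) ℂ) (π : K →* A) where
  E : weights Θ π → Matrix (Fin d) (Fin d) ℂ
  om : weights Θ π → weights Θ π → ℂˣ
  one : E 1 = 1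
  det : ∀ b, (E b).det ≠ 0
  wt : ∀ b : weights Θ π, Wt Θ π (b : A →* ℂˣ) (E b)
  mul : ∀ a b, E a * E b = (om a b : ℂ) • E (a * b)
  om_left : ∀ a b c, om (a * b) c = om a c * om b c
  om_right : ∀ a b c, om a (b * c) = om a b * om a c
  om_self : ∀ a, om a a = 1
  om_pow : ∀ a b, om a b ^ d = 1
  nondeg : ∀ a, (∀ b, om a b = 1) → a = 1
  odd : Odd (Nat.card (weights Θ π))
  span : ∀ X, Com Θ π X → ∀ [Fintype (weights Θ π)], ∃ y : weights Θ π → ℂ, X = ∑ b, y b • E b

theorem ne_zero_of_det {X : Matrix (Fin d) (Fin d) ℂ} (h : X.det ≠ 0) (hd : d ≠ 0) : X ≠ 0 :=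
  fun h0 => by
    haveI : Nonempty (Fin d) := Fin.pos_iff_nonempty.1 (Nat.pos_of_ne_zero hd)
    exact h (by rw [h0, Matrix.det_zero])

theorem exists_sys {θ : K → ℂ} (hθ : Cfsg.IsIrrCharacter K θ) (htr : ∀ k, (Θ k).trace = θ k)
    (hπ : Function.Surjective π) (hodd : Odd (Nat.card (weights Θ π)))
    (hcentre : ∀ X, Com Θ π X → (∀ Y, Com Θ π Y → X * Y = Y * X) → ∃ c : ℂ, X = c • 1) :
    Nonempty (Sys Θ π) := by
  classical
  haveI := Fintype.ofFinite K
  have hd := dim_ne_zero Θ hθ htr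
  obtain ⟨E, hE1, hEw, hspan⟩ := exists_basis hθ htr hπ
  have hdetE : ∀ b, (E b).det ≠ 0 := fun b => by rw [(hEw b).1]; exact one_ne_zero
  have hne : ∀ b, E b ≠ 0 := fun b => ne_zero_of_det (hdetE b) hd
  choose c hc using fun a b : weights Θ π =>
    (hEw (a * b)).2.eq_smul hθ htr (hne (a * b)) ((hEw a).2.mul (hEw b).2)
  have hcd : ∀ a b, c a b ^ d = 1 := fun a b => by
    have := congrArg Matrix.det (hc a b)
    rw [Matrix.det_mul, (hEw a).1, (hEw b).1, Matrix.det_smul, (hEw _).1, Fintype.card_fin,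
      mul_one, mul_one] at this
    exact this.symm
  let C : weights Θ π → weights Θ π → ℂˣ := fun a b =>
    Units.mk0 (c a b) fun h => by simpa [h, hd] using hcd a b
  have hC : ∀ a b, E a * E b = (C a b : ℂ) • E (a * b) := hc
  have hCd : ∀ a b, C a b ^ d = 1 := fun a b => Units.ext (by
    rw [Units.val_pow_eq_pow_val, Units.val_one]; exact hcd a b)
  have hcancel : ∀ {b : weights Θ π} {z w : ℂˣ}, (z : ℂ) • E b = (w : ℂ) • E b → z = w :=
    fun h => Units.ext (smul_left_injective ℂ (hne _) h)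
  have hco : ∀ a b x, C a b * C (a * b) x = C b x * C a (b * x) := by
    intro a b x
    refine hcancel (b := a * b * x) ?_
    calc ((C a b * C (a * b) x : ℂˣ) : ℂ) • E (a * b * x) = E a * E b * E x := by
          rw [hC a b, Matrix.smul_mul, hC, smul_smul, Units.val_mul]
      _ = _ := by
          rw [Matrix.mul_assoc, hC b x, Matrix.mul_smul, hC, smul_smul, Units.val_mul, ← mul_assoc a]
  have hC1 : ∀ a, C 1 a = 1 := fun a => hcancel (b := a) (by
    rw [Units.val_one, one_smul]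
    have := hC 1 a
    rw [hE1, Matrix.one_mul, one_mul] at this
    exact this.symm)
  set β : weights Θ π → weights Θ π → ℂˣ := fun a b => C a b / C b a with hβ
  have hβc : ∀ a b, E a * E b = (β a b : ℂ) • (E b * E a) := fun a b => by
    rw [hC, hC, smul_smul, ← Units.val_mul, hβ, div_mul_cancel, mul_comm b a]
  have hββ : ∀ a b, β a b * β b a = 1 := fun a b => by
    rw [hβ]; exact div_mul_div_cancel _ _ _ |>.trans (div_self' _)
  have hβr : ∀ a b x, β a (b * x) = β a b * β a x := by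
    intro a b x
    have h0 : E (b * x) * E a ≠ 0 :=
      ne_zero_of_det (by rw [Matrix.det_mul]; exact mul_ne_zero (hdetE _) (hdetE _)) hd
    refine Units.ext (smul_left_injective ℂ h0 ?_)
    have e1 : E (b * x) = ((C b x)⁻¹ : ℂˣ) • (E b * E x) := by
      rw [hC, Units.smul_def, smul_smul, Units.inv_mul, one_smul]
    show (β a (b * x) : ℂ) • (E (b * x) * E a) = ((β a b * β a x : ℂˣ) : ℂ) • (E (b * x) * E a)
    rw [← hβc, e1, Units.smul_def, Matrix.mul_smul, Matrix.smul_mul, ← Matrix.mul_assoc, hβc a b,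
      Matrix.smul_mul, Matrix.mul_assoc, hβc a x, Matrix.mul_smul, ← Matrix.mul_assoc, smul_smul,
      smul_smul, smul_smul, Units.val_mul]
    congr 1
    ring
  have hβl : ∀ a b x, β (a * b) x = β a x * β b x := fun a b x => by
    rw [eq_inv_of_mul_eq_one_left (hββ (a * b) x), hβr, eq_inv_of_mul_eq_one_left (hββ a x),
      eq_inv_of_mul_eq_one_left (hββ b x), mul_inv]
  let bh : weights Θ π → weights Θ π →* ℂˣ := fun a => MonoidHom.mk' (β a) (hβr a)
  set n := Nat.card (weights Θ π)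
  have hβn : ∀ a b, β a b ^ n = 1 := fun a b => by
    rw [show β a b = bh a b from rfl, ← map_pow, pow_card_eq_one', map_one]
  obtain ⟨j, hj⟩ := hodd
  set ω : weights Θ π → weights Θ π → ℂˣ := fun a b => β a b ^ (j + 1) with hω
  have hω2 : ∀ a b, ω a b * ω a b = β a b := fun a b => by
    rw [hω, ← pow_add, show j + 1 + (j + 1) = n + 1 by omega, pow_succ, hβn, one_mul]
  have hωsym : ∀ a b, ω a b * ω b a = 1 := fun a b => by
    rw [hω, ← mul_pow, hββ, one_pow]
  have hωd : ∀ a b, ω a b ^ d = 1 := fun a b => by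
    rw [hω, ← pow_mul, mul_comm, pow_mul, hβ, div_pow, hCd, hCd, div_one, one_pow]
  have hωr : ∀ a b x, ω a (b * x) = ω a b * ω a x := fun a b x => by
    rw [hω]; simp only; rw [hβr, mul_pow]
  have hωl : ∀ a b x, ω (a * b) x = ω a x * ω b x := fun a b x => by
    rw [hω]; simp only; rw [hβl, mul_pow]
  have hω1 : ∀ a, ω 1 a = 1 := fun a => by
    have h := hωl 1 1 a
    rwa [one_mul, right_eq_mul] at h
  obtain ⟨μ, hμ1, hμ⟩ := exists_split (fun a b => C a b / ω a b)
    (fun a b x => by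
      rw [div_mul_div_comm, div_mul_div_comm, hco, hωl, hωr, mul_comm (ω b x),
        mul_assoc (ω a b) (ω a x)]
      )
    (fun a b => by
      rw [div_eq_div_iff_mul_eq_mul, ← div_mul_cancel (C a b) (C b a),
        show C a b / C b a = β a b from rfl, ← hω2 a b]
      rw [mul_right_comm (ω a b * ω a b), mul_assoc (ω a b) (ω a b), hωsym, mul_one, mul_comm])
    (fun a => by rw [hC1, hω1, div_one]) hd (fun a b => by rw [div_pow, hCd, hωd, div_one])
  refine ⟨⟨fun b => ((μ b)⁻¹ : ℂˣ) • E b, ω, ?_, fun b => ?_, fun b => ?_, fun a b => ?_, hωl, hωr,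
    fun a => ?_, hωd, fun a ha => ?_, ⟨j, hj⟩, fun X hX => ?_⟩⟩
  · show ((μ 1)⁻¹ : ℂˣ) • E 1 = 1
    rw [hμ1, inv_one, one_smul, hE1]
  · rw [Units.smul_def, Matrix.det_smul]
    exact mul_ne_zero (pow_ne_zero _ (Units.ne_zero _)) (hdetE b)
  · rw [Units.smul_def]; exact (hEw b).2.smul _
  · simp only [Units.smul_def, Matrix.smul_mul, Matrix.mul_smul, hC, smul_smul, ← Units.val_mul]
    congr 2
    rw [← mul_assoc, ← _root_.mul_inv_rev, hμ a b]
    simp only [div_eq_mul_inv, _root_.mul_inv, inv_inv]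
    rw [mul_comm, ← mul_assoc, ← mul_assoc, mul_inv_cancel, one_mul]
  · rw [hω]; simp only
    rw [show β a a = 1 from div_self' _, one_pow]
  · have hall : ∀ Y, Com Θ π Y → E a * Y = Y * E a := fun Y hY => by
      haveI := Fintype.ofFinite (weights Θ π)
      obtain ⟨y, rfl⟩ := hspan Y hY
      rw [Finset.mul_sum, Finset.sum_mul]
      refine Finset.sum_congr rfl fun b _ => ?_
      rw [Matrix.mul_smul, Matrix.smul_mul, hβc, ← hω2, ha b, mul_one, Units.val_one, one_smul]
    obtain ⟨z, hz⟩ := hcentre (E a) (hEw a).2.com hall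
    have hz0 : z • (1 : Matrix (Fin d) (Fin d) ℂ) ≠ 0 := hz ▸ hne a
    refine Subtype.ext (MonoidHom.ext fun x => ?_)
    obtain ⟨k, rfl⟩ := hπ x
    have h := (hEw a).2 k
    rw [hz, Matrix.mul_smul, Matrix.mul_one, Matrix.smul_mul, conj_cancel'] at h
    refine Units.ext ?_
    rw [OneMemClass.coe_one, MonoidHom.one_apply, Units.val_one]
    exact smul_left_injective ℂ hz0 (show _ • (z • (1 : Matrix (Fin d) (Fin d) ℂ)) = (1 : ℂ) • _ by
      rw [one_smul]; exact h.symm)
  · intro inst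
    obtain ⟨y, hy⟩ := hspan X hX
    refine ⟨fun b => y b * (μ b : ℂ), hy.trans (Finset.sum_congr rfl fun b _ => ?_)⟩
    rw [Units.smul_def, smul_smul, mul_assoc, Units.mul_inv, mul_one]

/-- The centre of the commutant is scalar when the restriction to the kernel is homogeneous. -/
theorem centre_scalar {φ : π.ker → ℂ} (hφ : Cfsg.IsIrrCharacter π.ker φ) {e : ℕ}
    (hres : ∀ l : π.ker, (Θ (l : K)).trace = (e : ℂ) * φ l) (X : Matrix (Fin d) (Fin d) ℂ)
    (hX : Com Θ π X) (hall : ∀ Y, Com Θ π Y → X * Y = Y * X) : ∃ c : ℂ, X = c • 1 := by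
  let L := (Matrix.toLinAlgEquiv' (R := ℂ) (n := Fin d))
  let σ : Representation ℂ π.ker (Fin d → ℂ) :=
    L.toMulEquiv.toMonoidHom.comp (Θ.comp π.ker.subtype)
  have hσ : σ.character = (e : ℂ) • φ := funext fun l => by
    rw [Pi.smul_apply, smul_eq_mul, ← hres]
    exact Matrix.trace_toLin'_eq (Θ (l : K))
  have hmem : ∀ Y, L Y ∈ Cfsg.Agent.CharTheory.HomCentralizer.cent σ ↔ Com Θ π Y := by
    intro Y
    rw [Cfsg.Agent.CharTheory.HomCentralizer.mem_cent]
    refine ⟨fun h k hk => L.injective ?_, fun h l => ?_⟩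
    · rw [map_mul, map_mul]; exact h ⟨k, hk⟩
    · show L (Θ (l : K)) * L Y = L Y * L (Θ (l : K))
      rw [← map_mul, ← map_mul, h l l.2]
  obtain ⟨c, hc⟩ := Cfsg.Agent.CharTheory.HomCentralizer.center_scalar σ hφ hσ ((hmem X).2 hX)
    fun S hS => by
      obtain ⟨Y, rfl⟩ := L.surjective S
      rw [← map_mul, ← map_mul, hall Y ((hmem Y).1 hS)]
  exact ⟨c, L.injective (by rw [hc, map_smul, map_one])⟩

namespace Sys

variable (Q : Sys Θ π)

theorem om_one_left (a : weights Θ π) : Q.om 1 a = 1 := by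
  have h := Q.om_left 1 1 a
  rwa [one_mul, right_eq_mul] at h

theorem om_one_right (a : weights Θ π) : Q.om a 1 = 1 := by
  have h := Q.om_right a 1 1
  rwa [one_mul, right_eq_mul] at h

theorem om_swap (a b : weights Θ π) : Q.om a b * Q.om b a = 1 := by
  have h := Q.om_self (a * b)
  rwa [Q.om_left, Q.om_right, Q.om_right, Q.om_self, Q.om_self, one_mul, mul_one] at h

theorem om_inv_right (a b : weights Θ π) : Q.om a b⁻¹ = (Q.om a b)⁻¹ := by
  rw [eq_inv_iff_mul_eq_one, ← Q.om_right, inv_mul_cancel, Q.om_one_right]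

theorem mul_inv (a : weights Θ π) : Q.E a * Q.E a⁻¹ = 1 := by
  rw [Q.mul, mul_inv_cancel, Q.one, Q.om_inv_right, Q.om_self, inv_one, Units.val_one, one_smul]

theorem inv_mul (a : weights Θ π) : Q.E a⁻¹ * Q.E a = 1 := mul_eq_one_comm.1 (Q.mul_inv a)

include Q in
theorem exists_sqrt (a : weights Θ π) : ∃ x, x * x = a := by
  obtain ⟨j, hj⟩ := Q.odd
  refine ⟨a ^ (j + 1), ?_⟩
  rw [← pow_add, show j + 1 + (j + 1) = Nat.card (weights Θ π) + 1 by omega, pow_succ,
    pow_card_eq_one', one_mul]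

include Q in
theorem eq_one_of_sq {a : weights Θ π} (h : a * a = 1) : a = 1 := by
  obtain ⟨j, hj⟩ := Q.odd
  have h1 := pow_card_eq_one' (G := weights Θ π) (x := a)
  rw [hj, pow_succ, pow_mul, pow_two, h, one_pow, one_mul] at h1
  exact h1

/-- The conjugates of a parity operator. -/
def shift (T : Matrix (Fin d) (Fin d) ℂ) (x : weights Θ π) : Matrix (Fin d) (Fin d) ℂ :=
  Q.E x * T * Q.E x⁻¹

/-- A parity operator, up to scalars in the inversion. -/
def IsPar (e : ℕ) (T : Matrix (Fin d) (Fin d) ℂ) : Prop :=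
  Com Θ π T ∧ T * T = 1 ∧ T.trace = (d : ℂ) / e ∧
    ∀ a, ∃ c : ℂ, Q.E a * T = c • (T * Q.E a⁻¹)

theorem exists_parity (hπ : Function.Surjective π) {e : ℕ}
    (he : Nat.card (weights Θ π) = e ^ 2) :
    ∃ T, Q.IsPar e T ∧ ∀ a, Q.E a * T = T * Q.E a⁻¹ := by
  classical
  haveI := Fintype.ofFinite (weights Θ π)
  have he0 : (e : ℂ) ≠ 0 := Nat.cast_ne_zero.2 fun h => by
    rw [h] at he; exact Nat.card_pos.ne' (he.trans (by simp))
  set T : Matrix (Fin d) (Fin d) ℂ := (e : ℂ)⁻¹ • ∑ b, Q.E b with hT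
  have hinv : ∀ a, Q.E a * T = T * Q.E a⁻¹ := by
    intro a
    rw [hT, Matrix.mul_smul, Matrix.smul_mul, Finset.mul_sum, Finset.sum_mul]
    congr 1
    refine Fintype.sum_equiv (Equiv.mulRight (a * a)) _ _ fun b => ?_
    rw [Equiv.coe_mulRight, Q.mul, Q.mul, show b * (a * a) * a⁻¹ = a * b by
      rw [← mul_assoc, mul_inv_cancel_right, mul_comm]]
    congr 2
    rw [Q.om_inv_right, Q.om_left, Q.om_left, Q.om_self, mul_one, mul_one,
      eq_inv_of_mul_eq_one_left (Q.om_swap a b)]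
  refine ⟨T, ⟨?_, ?_, ?_, fun a => ⟨1, by rw [one_smul, hinv]⟩⟩, hinv⟩
  · intro k hk
    rw [hT, Matrix.mul_smul, Matrix.smul_mul, Finset.mul_sum, Finset.sum_mul]
    exact congrArg _ (Finset.sum_congr rfl fun b _ => (Q.wt b).com k hk)
  · rw [hT, Matrix.smul_mul, Matrix.mul_smul, smul_smul, Finset.sum_mul_sum]
    have hrow : ∀ a, ∑ b, Q.E a * Q.E b = ∑ b, (Q.om a b : ℂ) • Q.E b := by
      intro a
      refine Fintype.sum_equiv (Equiv.mulLeft a) _ _ fun b => ?_
      rw [Equiv.coe_mulLeft, Q.mul, Q.om_right, Q.om_self, one_mul]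
    rw [Finset.sum_congr rfl fun a _ => hrow a, Finset.sum_comm]
    simp only [← Finset.sum_smul]
    rw [Finset.sum_eq_single 1]
    · simp only [Q.om_one_right, Units.val_one, Finset.sum_const, Finset.card_univ,
        ← Nat.card_eq_fintype_card, he, nsmul_eq_mul, mul_one, Q.one, smul_smul]
      rw [show (e : ℂ)⁻¹ * (e : ℂ)⁻¹ * ((e ^ 2 : ℕ) : ℂ) = 1 by push_cast; field_simp, one_smul]
    · intro c _ hc
      have hS : ∑ a, (Q.om a c : ℂ) = 0 := by
        obtain ⟨a, ha⟩ : ∃ a, Q.om a c ≠ 1 := by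
          by_contra! h
          exact hc (Q.nondeg c fun b => by
            have := Q.om_swap b c
            rw [h b, one_mul] at this
            exact this)
        have e1 : (Q.om a c : ℂ) * ∑ b, (Q.om b c : ℂ) = ∑ b, (Q.om b c : ℂ) := by
          rw [Finset.mul_sum]
          refine Fintype.sum_equiv (Equiv.mulLeft a) _ _ fun b => ?_
          rw [Equiv.coe_mulLeft, Q.om_left, Units.val_mul]
        by_contra h0
        exact ha (Units.ext (mul_right_cancel₀ h0 (e1.trans (one_mul _).symm)))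
      rw [hS, zero_smul]
    · simp
  · rw [hT, trace_smul, trace_sum, Finset.sum_eq_single 1]
    · rw [Q.one, trace_one, Fintype.card_fin, smul_eq_mul, inv_mul_eq_div]
    · exact fun b _ hb => (Q.wt b).trace_eq_zero hπ fun h => hb (Subtype.ext h)
    · simp

theorem shift_eq {T : Matrix (Fin d) (Fin d) ℂ} (hT : ∀ a, Q.E a * T = T * Q.E a⁻¹)
    (x : weights Θ π) : Q.shift T x = Q.E (x * x) * T := by
  have h : T * Q.E x⁻¹ = Q.E x * T := (hT x).symm
  rw [shift, Matrix.mul_assoc, h, ← Matrix.mul_assoc, Q.mul, Q.om_self, Units.val_one, one_smul]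

theorem shift_injective (hd : d ≠ 0) (hπ : Function.Surjective π) {T : Matrix (Fin d) (Fin d) ℂ}
    (hT2 : T * T = 1) (hT : ∀ a, Q.E a * T = T * Q.E a⁻¹) : Function.Injective (Q.shift T) := by
  intro x y h
  rw [Q.shift_eq hT, Q.shift_eq hT] at h
  have h1 : Q.E (x * x) = Q.E (y * y) := by
    have := congrArg (· * T) h
    simpa only [Matrix.mul_assoc, hT2, Matrix.mul_one] using this
  have h2 : x * x = y * y := by
    by_contra hne
    refine hne (Subtype.ext (MonoidHom.ext fun a => ?_))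
    obtain ⟨k, rfl⟩ := hπ a
    have e1 := Q.wt (x * x) k
    rw [h1, Q.wt (y * y) k] at e1
    exact (Units.ext (smul_left_injective ℂ (ne_zero_of_det (Q.det _) hd) e1)).symm
  refine div_eq_one.1 (Q.eq_one_of_sq ?_)
  rw [div_mul_div_comm, h2, div_self']

theorem coeff_eq_zero (hd : d ≠ 0) (hπ : Function.Surjective π) [Fintype (weights Θ π)]
    {z : weights Θ π → ℂ} (hz : (∑ a, z a • Q.E a) = 0) (a : weights Θ π) : z a = 0 := by
  have h := congrArg (fun X => (X * Q.E a⁻¹).trace) hz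
  simp only [Finset.sum_mul, Matrix.smul_mul, Q.mul, trace_sum, trace_smul, Matrix.zero_mul,
    trace_zero, smul_eq_mul] at h
  rw [Finset.sum_eq_single a] at h
  · rw [mul_inv_cancel, Q.one, trace_one, Fintype.card_fin] at h
    simpa [hd, Units.ne_zero] using h
  · intro b _ hb
    rw [(Q.wt (b * a⁻¹)).trace_eq_zero hπ fun h0 => hb (mul_inv_eq_one.1 (Subtype.ext h0)),
      mul_zero, mul_zero]
  · simp

theorem shift_trace (T : Matrix (Fin d) (Fin d) ℂ) (x : weights Θ π) :
    (Q.shift T x).trace = T.trace := by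
  rw [shift, Matrix.trace_mul_comm, ← Matrix.mul_assoc, Q.inv_mul, Matrix.one_mul]

theorem shift_sq {T : Matrix (Fin d) (Fin d) ℂ} (hT : T * T = 1) (x : weights Θ π) :
    Q.shift T x * Q.shift T x = 1 := by
  simp only [shift, Matrix.mul_assoc]
  rw [← Matrix.mul_assoc (Q.E x⁻¹) (Q.E x), Q.inv_mul, Matrix.one_mul, ← Matrix.mul_assoc T T, hT,
    Matrix.one_mul, Q.mul_inv]

/-- Every parity operator is a conjugate of the standard one. -/
theorem exists_shift (hd : d ≠ 0) (hπ : Function.Surjective π) {e : ℕ} (he : e ≠ 0)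
    {T T' : Matrix (Fin d) (Fin d) ℂ} (hT : Q.IsPar e T)
    (hTinv : ∀ a, Q.E a * T = T * Q.E a⁻¹) (hT' : Q.IsPar e T') :
    ∃ x, T' = Q.shift T x := by
  classical
  haveI := Fintype.ofFinite (weights Θ π)
  set Y := T' * T with hY
  have hYcom : Com Θ π Y := fun k hk => by
    rw [hY, ← Matrix.mul_assoc, hT'.1 k hk, Matrix.mul_assoc, hT.1 k hk, ← Matrix.mul_assoc]
  obtain ⟨y, hy⟩ := Q.span Y hYcom
  have hYcomm : ∀ b, ∃ c : ℂ, Q.E b * Y = c • (Y * Q.E b) := by
    intro b
    obtain ⟨c, hc⟩ := hT'.2.2.2 b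
    refine ⟨c, ?_⟩
    rw [hY, ← Matrix.mul_assoc, hc, Matrix.smul_mul, Matrix.mul_assoc,
      show Q.E b⁻¹ * T = T * Q.E b by rw [hTinv, inv_inv], ← Matrix.mul_assoc]
  have hy0 : ∀ a a', y a ≠ 0 → y a' ≠ 0 → a = a' := by
    intro a a' ha ha'
    have hkey : ∀ b, ∃ c : ℂ, ∀ x, y x ≠ 0 → (Q.om b x : ℂ) * (Q.om b x : ℂ) = c := by
      intro b
      obtain ⟨c, hc⟩ := hYcomm b
      refine ⟨c, fun x hx => ?_⟩
      rw [hy, Finset.mul_sum, Finset.sum_mul, Finset.smul_sum, ← sub_eq_zero,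
        ← Finset.sum_sub_distrib] at hc
      simp only [Matrix.mul_smul, Matrix.smul_mul, Q.mul, smul_smul, mul_comm _ b, ← sub_smul] at hc
      rw [← Equiv.sum_comp (Equiv.mulLeft b⁻¹)] at hc
      simp only [Equiv.coe_mulLeft, mul_inv_cancel_left] at hc
      have h := Q.coeff_eq_zero hd hπ hc (b * x)
      rw [inv_mul_cancel_left] at h
      have hs : (Q.om b x : ℂ) * (Q.om x b : ℂ) = 1 := by
        rw [← Units.val_mul, Q.om_swap, Units.val_one]
      have h' : (Q.om b x : ℂ) - c * (Q.om x b : ℂ) = 0 :=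
        mul_left_cancel₀ hx (by rw [mul_zero]; linear_combination h)
      linear_combination (Q.om b x : ℂ) * h' + c * hs
    have hx : a * a'⁻¹ * (a * a'⁻¹) = 1 := Q.nondeg _ fun b => by
      obtain ⟨c, hc⟩ := hkey b
      have h2 : Q.om b a * Q.om b a = Q.om b a' * Q.om b a' :=
        Units.ext (by rw [Units.val_mul, Units.val_mul, hc a ha, hc a' ha'])
      have h3 : Q.om b (a * a'⁻¹ * (a * a'⁻¹)) = 1 := by
        rw [Q.om_right, Q.om_right, Q.om_inv_right, mul_mul_mul_comm, h2, ← _root_.mul_inv_rev,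
          mul_inv_cancel]
      have h4 := Q.om_swap (a * a'⁻¹ * (a * a'⁻¹)) b
      rwa [h3, mul_one] at h4
    exact mul_inv_eq_one.1 (Q.eq_one_of_sq hx)
  obtain ⟨a, ha⟩ : ∃ a, y a ≠ 0 := by
    by_contra! h
    have hY0 : Y = 0 := by rw [hy]; simp [h]
    haveI : Nonempty (Fin d) := Fin.pos_iff_nonempty.1 (Nat.pos_of_ne_zero hd)
    have h1 : T' * Y * T = 1 := by
      rw [hY, ← Matrix.mul_assoc, hT'.2.1, Matrix.one_mul, hT.2.1]
    rw [hY0, Matrix.mul_zero, Matrix.zero_mul] at h1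
    exact zero_ne_one h1
  have hYa : Y = y a • Q.E a := by
    rw [hy, Finset.sum_eq_single a (fun b _ hb => ?_) (fun h => absurd (Finset.mem_univ a) h)]
    by_cases hb0 : y b = 0
    · rw [hb0, zero_smul]
    · exact absurd (hy0 b a hb0 ha) hb
  obtain ⟨x, hx⟩ := Q.exists_sqrt a
  have hT'Y : T' = y a • Q.shift T x := by
    rw [Q.shift_eq hTinv, hx, ← Matrix.smul_mul, ← hYa, hY, Matrix.mul_assoc, hT.2.1, Matrix.mul_one]
  have htr := congrArg Matrix.trace hT'Y
  rw [trace_smul, Q.shift_trace, hT'.2.2.1, hT.2.2.1, smul_eq_mul] at htr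
  have hde : (d : ℂ) / e ≠ 0 := div_ne_zero (Nat.cast_ne_zero.2 hd) (Nat.cast_ne_zero.2 he)
  have hy1 : y a = 1 := mul_right_cancel₀ hde (htr.symm.trans (one_mul _).symm)
  exact ⟨x, by rw [hT'Y, hy1, one_smul]⟩

end Sys

end Cfsg.Agent.BlocksChars.IsaacsOdd
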