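import Mathlib
import Cfsg.Agent.BlocksChars.IsaacsOdd.Parity

/-!
# Automorphisms fixing the character act on the parity operators

An automorphism of `K` fixing `θ` extends uniquely to a linear automorphism of the matrix algebra
and permutes weight vectors and parity operators.
-/

set_option linter.style.haveILetI false
set_option linter.unusedSectionVars false

namespace Cfsg.Agent.BlocksChars.IsaacsOdd

open Matrix Cfsg.Agent.Characters Cfsg.Agent.BlocksChars.Arc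

universe u

variable {d : ℕ} {K A : Type u} [Group K] [Finite K] [CommGroup A] [Finite A]
  (Θ : K →* Matrix (Fin d) (Fin d) ℂ) (π : K →* A) {θ : K → ℂ}
  (hθ : Cfsg.IsIrrCharacter K θ) (htr : ∀ k, (Θ k).trace = θ k)

/-- Automorphisms fixing the character and the kernel. -/
structure IsAut (θ : K → ℂ) (π : K →* A) (α : MulAut K) : Prop where
  char : ∀ k, θ (α k) = θ k
  ker : ∀ k, α k ∈ π.ker ↔ k ∈ π.ker

theorem IsAut.one : IsAut θ π 1 := ⟨fun _ => rfl, fun _ => Iff.rfl⟩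

variable {π}

theorem IsAut.mul {α β : MulAut K} (hα : IsAut θ π α) (hβ : IsAut θ π β) : IsAut θ π (α * β) :=
  ⟨fun k => (hα.char (β k)).trans (hβ.char k), fun k => (hα.ker (β k)).trans (hβ.ker k)⟩

theorem IsAut.inv {α : MulAut K} (hα : IsAut θ π α) : IsAut θ π α⁻¹ :=
  ⟨fun k => by rw [← hα.char (α⁻¹ k), MulAut.apply_inv_self],
    fun k => by rw [← hα.ker (α⁻¹ k), MulAut.apply_inv_self]⟩

/-- The linear extension of `Θ k ↦ Θ (α k)`. -/
noncomputable def cj (α : MulAut K) :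
    Matrix (Fin d) (Fin d) ℂ →ₗ[ℂ] Matrix (Fin d) (Fin d) ℂ := by
  classical
  exact
    if h : ∃ P R : Matrix (Fin d) (Fin d) ℂ, P * R = 1 ∧ ∀ k, P * Θ k * R = Θ (α k) then
      (LinearMap.mulLeft ℂ h.choose).comp (LinearMap.mulRight ℂ h.choose_spec.choose)
    else 0

include hθ htr in
theorem exists_intertwiner {α : MulAut K} (hα : ∀ k, θ (α k) = θ k) :
    ∃ P R : Matrix (Fin d) (Fin d) ℂ, P * R = 1 ∧ ∀ k, P * Θ k * R = Θ (α k) := by
  let L := Matrix.toLinAlgEquiv' (R := ℂ) (n := Fin d)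
  let σ : Representation ℂ K (Fin d → ℂ) := L.toMulEquiv.toMonoidHom.comp Θ
  let τ : Representation ℂ K (Fin d → ℂ) := σ.comp α.toMonoidHom
  have hst : σ.character = τ.character := funext fun k => by
    show LinearMap.trace ℂ _ (L (Θ k)) = LinearMap.trace ℂ _ (L (Θ (α k)))
    rw [show LinearMap.trace ℂ _ (L (Θ k)) = (Θ k).trace from Matrix.trace_toLin'_eq _,
      show LinearMap.trace ℂ _ (L (Θ (α k))) = (Θ (α k)).trace from Matrix.trace_toLin'_eq _,
      htr, htr, hα]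
  obtain ⟨e⟩ := nonempty_equiv_of_character_eq σ τ hst
  let f : Module.End ℂ (Fin d → ℂ) := e.toLinearEquiv.toLinearMap
  let f' : Module.End ℂ (Fin d → ℂ) := e.toLinearEquiv.symm.toLinearMap
  have hf : f * f' = 1 := LinearMap.ext fun x => e.toLinearEquiv.apply_symm_apply x
  refine ⟨L.symm f, L.symm f', by rw [← map_mul, hf, map_one], fun k => L.injective ?_⟩
  rw [map_mul, map_mul, L.apply_symm_apply, L.apply_symm_apply]
  have he : f * L (Θ k) = L (Θ (α k)) * f := e.toIntertwiningMap.isIntertwining' k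
  rw [he, mul_assoc, hf, mul_one]

include hθ htr in
theorem cj_spec {α : MulAut K} (hα : ∀ k, θ (α k) = θ k) :
    ∃ P R : Matrix (Fin d) (Fin d) ℂ, P * R = 1 ∧ R * P = 1 ∧ ∀ X, cj Θ α X = P * X * R := by
  classical
  have h := exists_intertwiner Θ hθ htr hα
  refine ⟨h.choose, h.choose_spec.choose, h.choose_spec.choose_spec.1,
    mul_eq_one_comm.1 h.choose_spec.choose_spec.1, fun X => ?_⟩
  rw [cj, dif_pos h, LinearMap.comp_apply, LinearMap.mulLeft_apply, LinearMap.mulRight_apply,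
    Matrix.mul_assoc]

include hθ htr in
theorem cj_apply {α : MulAut K} (hα : ∀ k, θ (α k) = θ k) (k : K) :
    cj Θ α (Θ k) = Θ (α k) := by
  classical
  have h := exists_intertwiner Θ hθ htr hα
  rw [cj, dif_pos h, LinearMap.comp_apply, LinearMap.mulLeft_apply, LinearMap.mulRight_apply,
    ← Matrix.mul_assoc, h.choose_spec.choose_spec.2 k]

include hθ htr in
theorem cj_unique {α : MulAut K} (hα : ∀ k, θ (α k) = θ k)
    {L : Matrix (Fin d) (Fin d) ℂ →ₗ[ℂ] Matrix (Fin d) (Fin d) ℂ}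
    (hL : ∀ k, L (Θ k) = Θ (α k)) (X : Matrix (Fin d) (Fin d) ℂ) : cj Θ α X = L X :=
  LinearMap.congr_fun (LinearMap.ext_on_range (span_eq_top Θ hθ htr)
    fun k => (cj_apply Θ hθ htr hα k).trans (hL k).symm) X

include hθ htr in
theorem cj_mul {α : MulAut K} (hα : ∀ k, θ (α k) = θ k) (X Y : Matrix (Fin d) (Fin d) ℂ) :
    cj Θ α (X * Y) = cj Θ α X * cj Θ α Y := by
  obtain ⟨P, R, -, hRP, h⟩ := cj_spec Θ hθ htr hα
  simp only [h, Matrix.mul_assoc]
  rw [← Matrix.mul_assoc R P, hRP, Matrix.one_mul]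

include hθ htr in
theorem cj_map_one {α : MulAut K} (hα : ∀ k, θ (α k) = θ k) : cj Θ α 1 = 1 := by
  obtain ⟨P, R, hPR, -, h⟩ := cj_spec Θ hθ htr hα
  rw [h, Matrix.mul_one, hPR]

include hθ htr in
theorem cj_trace {α : MulAut K} (hα : ∀ k, θ (α k) = θ k) (X : Matrix (Fin d) (Fin d) ℂ) :
    (cj Θ α X).trace = X.trace := by
  obtain ⟨P, R, -, hRP, h⟩ := cj_spec Θ hθ htr hα
  rw [h, Matrix.trace_mul_comm, ← Matrix.mul_assoc, hRP, Matrix.one_mul]

include hθ htr in
theorem cj_det {α : MulAut K} (hα : ∀ k, θ (α k) = θ k) {X : Matrix (Fin d) (Fin d) ℂ}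
    (hX : X.det ≠ 0) : (cj Θ α X).det ≠ 0 := by
  obtain ⟨P, R, hPR, -, h⟩ := cj_spec Θ hθ htr hα
  have h1 : P.det * R.det = 1 := by rw [← Matrix.det_mul, hPR, Matrix.det_one]
  rw [h, Matrix.det_mul, Matrix.det_mul, mul_right_comm, h1, one_mul]
  exact hX

include hθ htr in
theorem cj_comp {α β : MulAut K} (hα : IsAut θ π α) (hβ : IsAut θ π β)
    (X : Matrix (Fin d) (Fin d) ℂ) : cj Θ (α * β) X = cj Θ α (cj Θ β X) :=
  cj_unique Θ hθ htr (hα.mul hβ).char (L := (cj Θ α).comp (cj Θ β)) (fun k => by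
    rw [LinearMap.comp_apply, cj_apply Θ hθ htr hβ.char, cj_apply Θ hθ htr hα.char]; rfl) X

include hθ htr in
theorem cj_id (X : Matrix (Fin d) (Fin d) ℂ) : cj Θ 1 X = X :=
  cj_unique Θ hθ htr (α := 1) (fun _ => rfl) (L := LinearMap.id) (fun _ => rfl) X

include hθ htr in
/-- Inner automorphisms act by conjugation. -/
theorem cj_conj (l : K) (X : Matrix (Fin d) (Fin d) ℂ) :
    cj Θ (MulAut.conj l) X = Θ l * X * Θ l⁻¹ := by
  refine (cj_unique Θ hθ htr (α := MulAut.conj l)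
    (fun k => char_isClassFunction (isCharacter_of_isIrr hθ) k l)
    (L := (LinearMap.mulLeft ℂ (Θ l)).comp (LinearMap.mulRight ℂ (Θ l⁻¹))) (fun k => ?_) X).trans ?_
  · rw [LinearMap.comp_apply, LinearMap.mulLeft_apply, LinearMap.mulRight_apply, MulAut.conj_apply,
      map_mul, map_mul, Matrix.mul_assoc]
  · rw [LinearMap.comp_apply, LinearMap.mulLeft_apply, LinearMap.mulRight_apply, Matrix.mul_assoc]

variable {Θ}

include hθ htr in
theorem Com.cj {α : MulAut K} (hα : IsAut θ π α) {X : Matrix (Fin d) (Fin d) ℂ}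
    (hX : Com Θ π X) : Com Θ π (cj Θ α X) := by
  intro k hk
  have h := congrArg (IsaacsOdd.cj Θ α) (hX (α⁻¹ k) ((hα.inv.ker k).2 hk))
  rwa [cj_mul Θ hθ htr hα.char, cj_mul Θ hθ htr hα.char, cj_apply Θ hθ htr hα.char,
    MulAut.apply_inv_self] at h

/-- Weights are determined on `K`. -/
theorem weights_ext (hπ : Function.Surjective π) {a b : weights Θ π}
    (h : ∀ k, (a : A →* ℂˣ) (π k) = (b : A →* ℂˣ) (π k)) : a = b :=
  Subtype.ext (MonoidHom.ext fun x => by obtain ⟨k, rfl⟩ := hπ x; exact h k)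

/-- The action of an automorphism on the weights. -/
noncomputable def act (α : MulAut K) (a : weights Θ π) : weights Θ π := by
  classical
  exact
    if h : ∃ b : weights Θ π, ∀ k, (b : A →* ℂˣ) (π k) = (a : A →* ℂˣ) (π (α⁻¹ k)) then h.choose
    else a

include hθ htr in
theorem act_spec (hπ : Function.Surjective π) {α : MulAut K} (hα : IsAut θ π α)
    (a : weights Θ π) (k : K) :
    (act α a : A →* ℂˣ) (π k) = (a : A →* ℂˣ) (π (α⁻¹ k)) := by
  classical
  have hle : π.ker ≤ ((a : A →* ℂˣ).comp (π.comp (α⁻¹).toMonoidHom)).ker := fun x hx => by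
    rw [MonoidHom.mem_ker, MonoidHom.comp_apply, MonoidHom.comp_apply, MulEquiv.coe_toMonoidHom,
      MonoidHom.mem_ker.1 ((hα.inv.ker x).2 hx), map_one]
  let μ : A →* ℂˣ := π.liftOfSurjective hπ ⟨_, hle⟩
  have hμ : ∀ x, μ (π x) = (a : A →* ℂˣ) (π (α⁻¹ x)) := fun x =>
    π.liftOfRightInverse_comp_apply _ (Function.rightInverse_surjInv hπ) ⟨_, hle⟩ x
  obtain ⟨X, hX, hw⟩ := a.2
  have hμw : Wt Θ π μ (cj Θ α X) := fun x => by
    have h := congrArg (cj Θ α) (hw (α⁻¹ x))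
    rwa [cj_mul Θ hθ htr hα.char, cj_mul Θ hθ htr hα.char, cj_apply Θ hθ htr hα.char,
      cj_apply Θ hθ htr hα.char, map_inv, MulAut.apply_inv_self, map_smul, ← hμ] at h
  have hex : ∃ b : weights Θ π, ∀ x, (b : A →* ℂˣ) (π x) = (a : A →* ℂˣ) (π (α⁻¹ x)) :=
    ⟨⟨μ, _, cj_det Θ hθ htr hα.char hX, hμw⟩, hμ⟩
  rw [act, dif_pos hex, hex.choose_spec k]

include hθ htr in
theorem act_mul (hπ : Function.Surjective π) {α : MulAut K} (hα : IsAut θ π α)
    (a b : weights Θ π) : act α (a * b) = act α a * act α b :=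
  weights_ext hπ fun k => by
    simp only [act_spec hθ htr hπ hα, Subgroup.coe_mul, MonoidHom.mul_apply]

/-- The action as a homomorphism. -/
noncomputable def actHom (hπ : Function.Surjective π) {α : MulAut K} (hα : IsAut θ π α) :
    weights Θ π →* weights Θ π :=
  MonoidHom.mk' (act α) (act_mul hθ htr hπ hα)

theorem actHom_apply (hπ : Function.Surjective π) {α : MulAut K} (hα : IsAut θ π α)
    (a : weights Θ π) : actHom hθ htr hπ hα a = act α a := rfl

include hθ htr in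
theorem act_inv (hπ : Function.Surjective π) {α : MulAut K} (hα : IsAut θ π α)
    (a : weights Θ π) : act α a⁻¹ = (act α a)⁻¹ := map_inv (actHom hθ htr hπ hα) a

include hθ htr in
theorem act_comp (hπ : Function.Surjective π) {α β : MulAut K} (hα : IsAut θ π α)
    (hβ : IsAut θ π β) (a : weights Θ π) : act (α * β) a = act α (act β a) :=
  weights_ext hπ fun k => by
    rw [act_spec hθ htr hπ (hα.mul hβ), act_spec hθ htr hπ hα, act_spec hθ htr hπ hβ,
      _root_.mul_inv_rev, MulAut.mul_apply]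

include hθ htr in
theorem act_id (hπ : Function.Surjective π) (a : weights Θ π) : act 1 a = a :=
  weights_ext hπ fun k => by rw [act_spec hθ htr hπ (α := 1) ⟨fun _ => rfl, fun _ => Iff.rfl⟩, inv_one, MulAut.one_apply]

namespace Sys

variable (Q : Sys Θ π)

include hθ htr in
theorem cj_E (hd : d ≠ 0) (hπ : Function.Surjective π) {α : MulAut K} (hα : IsAut θ π α)
    (a : weights Θ π) : ∃ z : ℂ, z ≠ 0 ∧ cj Θ α (Q.E a) = z • Q.E (act α a) := by
  have hw : Wt Θ π (act α a : A →* ℂˣ) (cj Θ α (Q.E a)) := fun x => by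
    have h := congrArg (IsaacsOdd.cj Θ α) (Q.wt a (α⁻¹ x))
    rwa [cj_mul Θ hθ htr hα.char, cj_mul Θ hθ htr hα.char, cj_apply Θ hθ htr hα.char,
      cj_apply Θ hθ htr hα.char, map_inv, MulAut.apply_inv_self, map_smul,
      ← act_spec hθ htr hπ hα] at h
  obtain ⟨z, hz⟩ := (Q.wt (act α a)).eq_smul hθ htr (ne_zero_of_det (Q.det _) hd) hw
  refine ⟨z, fun h0 => cj_det Θ hθ htr hα.char (Q.det a) ?_, hz⟩
  haveI : Nonempty (Fin d) := Fin.pos_iff_nonempty.1 (Nat.pos_of_ne_zero hd)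
  rw [hz, h0, zero_smul, Matrix.det_zero]

theorem om_inv_left (a b : weights Θ π) : Q.om a⁻¹ b = (Q.om a b)⁻¹ := by
  rw [eq_inv_iff_mul_eq_one, ← Q.om_left, inv_mul_cancel, Q.om_one_left]

theorem shift_shift (T : Matrix (Fin d) (Fin d) ℂ) (t x : weights Θ π) :
    Q.shift (Q.shift T t) x = Q.shift T (x * t) := by
  rw [shift, shift, shift]
  simp only [← Matrix.mul_assoc]
  rw [Q.mul, Matrix.smul_mul, Matrix.smul_mul, Matrix.smul_mul, Matrix.mul_assoc _ (Q.E t⁻¹), Q.mul,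
    Matrix.mul_smul, smul_smul, ← Units.val_mul, Q.om_inv_left, Q.om_inv_right, inv_inv,
    Q.om_swap, Units.val_one, one_smul, ← _root_.mul_inv_rev]

theorem shift_one (T : Matrix (Fin d) (Fin d) ℂ) : Q.shift T 1 = T := by
  rw [shift, inv_one, Q.one, Matrix.one_mul, Matrix.mul_one]

include hθ htr in
theorem cj_shift (hd : d ≠ 0) (hπ : Function.Surjective π) {α : MulAut K} (hα : IsAut θ π α)
    (T : Matrix (Fin d) (Fin d) ℂ) (x : weights Θ π) :
    cj Θ α (Q.shift T x) = Q.shift (cj Θ α T) (act α x) := by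
  obtain ⟨z, -, hz⟩ := Q.cj_E hθ htr hd hπ hα x
  obtain ⟨z', -, hz'⟩ := Q.cj_E hθ htr hd hπ hα x⁻¹
  rw [act_inv hθ htr hπ hα] at hz'
  have h1 : cj Θ α (Q.E x) * cj Θ α (Q.E x⁻¹) = 1 := by
    rw [← cj_mul Θ hθ htr hα.char, Q.mul_inv, cj_map_one Θ hθ htr hα.char]
  rw [hz, hz', Matrix.smul_mul, Matrix.mul_smul, Q.mul_inv, smul_smul] at h1
  have h2 : z * z' = 1 := by
    have := congrArg Matrix.trace h1
    rw [trace_smul, trace_one, Fintype.card_fin, smul_eq_mul] at this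
    exact mul_right_cancel₀ (Nat.cast_ne_zero.2 hd) (this.trans (one_mul _).symm)
  rw [shift, cj_mul Θ hθ htr hα.char, cj_mul Θ hθ htr hα.char, hz, hz', shift, Matrix.smul_mul,
    Matrix.smul_mul, Matrix.mul_smul, smul_smul, h2, one_smul]

include hθ htr in
theorem isPar_cj (hd : d ≠ 0) (hπ : Function.Surjective π) {α : MulAut K} (hα : IsAut θ π α)
    {e : ℕ} {T : Matrix (Fin d) (Fin d) ℂ} (hT : Q.IsPar e T) : Q.IsPar e (cj Θ α T) := by
  refine ⟨hT.1.cj hθ htr hα, ?_, by rw [cj_trace Θ hθ htr hα.char]; exact hT.2.2.1, fun a => ?_⟩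
  · rw [← cj_mul Θ hθ htr hα.char, hT.2.1, cj_map_one Θ hθ htr hα.char]
  obtain ⟨b, rfl⟩ : ∃ b, act α b = a := ⟨act α⁻¹ a, by
    rw [← act_comp hθ htr hπ hα hα.inv, mul_inv_cancel, act_id hθ htr hπ]⟩
  obtain ⟨c, hc⟩ := hT.2.2.2 b
  obtain ⟨z, hz0, hz⟩ := Q.cj_E hθ htr hd hπ hα b
  obtain ⟨z', -, hz'⟩ := Q.cj_E hθ htr hd hπ hα b⁻¹
  rw [act_inv hθ htr hπ hα] at hz'
  refine ⟨z⁻¹ * (c * z'), ?_⟩
  have h := congrArg (cj Θ α) hc
  rw [map_smul, cj_mul Θ hθ htr hα.char, cj_mul Θ hθ htr hα.char, hz, hz', Matrix.smul_mul,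
    Matrix.mul_smul, smul_smul] at h
  rw [mul_smul, ← h, smul_smul, inv_mul_cancel₀ hz0, one_smul]

end Sys

end Cfsg.Agent.BlocksChars.IsaacsOdd
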