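import Mathlib
import Cfsg.Agent.BlocksChars.IsaacsOdd.Transport

/-!
# The fixed parity operator of a coprime action

A coprime group of automorphisms without fixed points on the abelian quotient fixes exactly one
parity operator, so this operator is fixed by all automorphisms commuting with the group.
-/

set_option linter.style.haveILetI false
set_option linter.unusedSectionVars false

namespace Cfsg.Agent.BlocksChars.IsaacsOdd

open Matrix Cfsg.Agent.Characters

universe u

variable {d : ℕ} {K A : Type u} [Group K] [Finite K] [CommGroup A] [Finite A]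
  {Θ : K →* Matrix (Fin d) (Fin d) ℂ} {π : K →* A} {θ : K → ℂ}
  (hθ : Cfsg.IsIrrCharacter K θ) (htr : ∀ k, (Θ k).trace = θ k)

include hθ htr in
/-- Only the trivial weight is fixed by a coprime fixed point free action. -/
theorem act_fixed_eq_one (hπ : Function.Surjective π) {U : Type*} [Group U] [Fintype U]
    (ac : U →* MulAut K) (hac : ∀ u, IsAut θ π (ac u))
    (hcop : (Nat.card U).Coprime (Nat.card A))
    (hfpf : ∀ k, (∀ u, π (ac u k) = π k) → π k = 1) {a : weights Θ π}
    (ha : ∀ u, act (ac u) a = a) : a = 1 := by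
  refine weights_ext hπ fun k => ?_
  have hinv : ∀ u k, (a : A →* ℂˣ) (π (ac u k)) = (a : A →* ℂˣ) (π k) := fun u k => by
    conv_lhs => rw [← ha u, act_spec hθ htr hπ (hac u), MulAut.inv_apply_self]
  obtain ⟨k', hk'⟩ := hπ (∏ u, π (ac u k))
  have hprod : π k' = 1 := hfpf k' fun v => by
    have hle : π.ker ≤ (π.comp (ac v).toMonoidHom).ker := fun x hx => by
      rw [MonoidHom.mem_ker, MonoidHom.comp_apply, MulEquiv.coe_toMonoidHom]
      exact MonoidHom.mem_ker.1 (((hac v).ker x).2 hx)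
    let g : A →* A := π.liftOfSurjective hπ ⟨_, hle⟩
    have hg : ∀ x, g (π x) = π (ac v x) := fun x =>
      π.liftOfRightInverse_comp_apply _ (Function.rightInverse_surjInv hπ) ⟨_, hle⟩ x
    rw [← hg, hk', map_prod]
    refine Fintype.prod_equiv (Equiv.mulLeft v) _ _ fun u => ?_
    rw [hg, Equiv.coe_mulLeft, map_mul, MulAut.mul_apply]
  have h1 : (a : A →* ℂˣ) (π k) ^ Nat.card U = 1 := by
    rw [Nat.card_eq_fintype_card, ← Finset.card_univ, ← Finset.prod_const,
      ← Finset.prod_congr rfl (fun u _ => hinv u k), ← map_prod, ← hk', hprod, map_one]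
  have h2 : (a : A →* ℂˣ) (π k) ^ Nat.card A = 1 := by
    rw [← map_pow, pow_card_eq_one', map_one]
  have h3 := pow_gcd_eq_one.2 ⟨h1, h2⟩
  rw [hcop, pow_one] at h3
  rw [h3, OneMemClass.coe_one, MonoidHom.one_apply]

namespace Sys

variable (Q : Sys Θ π)

include hθ htr in
/-- The fixed parity operator. -/
theorem exists_fixed_par (hπ : Function.Surjective π) {e : ℕ} (he : e ≠ 0)
    (hB : Nat.card (weights Θ π) = e ^ 2) {U : Type*} [Group U] [Finite U]
    (ac : U →* MulAut K) (hac : ∀ u, IsAut θ π (ac u))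
    (hcop : (Nat.card U).Coprime (Nat.card A))
    (hfpf : ∀ k, (∀ u, π (ac u k) = π k) → π k = 1) :
    ∃ T, Q.IsPar e T ∧ ∀ β : MulAut K, IsAut θ π β → (∀ u, ac u * β = β * ac u) →
      cj Θ β T = T := by
  classical
  haveI := Fintype.ofFinite U
  have hd := dim_ne_zero Θ hθ htr
  obtain ⟨T0, hT0, hinv⟩ := Q.exists_parity hπ hB
  have hinj := Q.shift_injective hd hπ hT0.2.1 hinv
  choose t ht using fun u =>
    Q.exists_shift hd hπ he hT0 hinv (Q.isPar_cj hθ htr hd hπ (hac u) hT0)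
  set σ : U → weights Θ π →* weights Θ π := fun u => actHom hθ htr hπ (hac u) with hσ
  have hσa : ∀ u a, σ u a = act (ac u) a := fun u a => rfl
  have hsh : ∀ u x, cj Θ (ac u) (Q.shift T0 x) = Q.shift T0 (σ u x * t u) := fun u x => by
    rw [Q.cj_shift hθ htr hd hπ (hac u), ht, Q.shift_shift, hσa]
  have hco : ∀ u v, t (u * v) = σ u (t v) * t u := fun u v => hinj (by
    rw [← hsh, ← ht, ← ht, ← cj_comp Θ hθ htr (hac u) (hac v), map_mul])
  have hexp : ∀ a : weights Θ π, a ^ Nat.card A = 1 := fun a =>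
    weights_ext hπ fun k => by
      rw [SubgroupClass.coe_pow, OneMemClass.coe_one, MonoidHom.pow_apply, MonoidHom.one_apply,
        ← map_pow, pow_card_eq_one', map_one]
  set n := Nat.card U with hn
  obtain ⟨m, hm⟩ : ∃ m, ∀ a : weights Θ π, (a ^ n) ^ m = a := by
    rcases Nat.lt_or_ge (Nat.card A) 2 with hA | hA
    · refine ⟨0, fun a => ?_⟩
      have h1 : Nat.card A = 1 := by have := Nat.card_pos (α := A); omega
      have := hexp a
      rw [h1, pow_one] at this
      rw [this, one_pow, one_pow]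
    · obtain ⟨m, -, hm⟩ := Nat.exists_mul_mod_eq_one_of_coprime hcop hA
      refine ⟨m, fun a => ?_⟩
      rw [← pow_mul, ← Nat.div_add_mod (n * m) (Nat.card A), hm, pow_add, pow_mul, hexp, one_pow,
        pow_one, one_mul]
  set z := ∏ v, t v with hz
  have hzu : ∀ u, σ u z * t u ^ n = z := fun u => by
    rw [hz, map_prod, hn, Nat.card_eq_fintype_card, ← Finset.card_univ, ← Finset.prod_const,
      ← Finset.prod_mul_distrib]
    exact Fintype.prod_equiv (Equiv.mulLeft u) _ _ fun v => (hco u v).symm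
  have hx : ∀ u, σ u (z ^ m) * t u = z ^ m := fun u => by
    conv_rhs => rw [← hzu u, mul_pow, hm, ← map_pow]
  refine ⟨Q.shift T0 (z ^ m), ?_, fun β hβ hcomm => ?_⟩
  · refine ⟨fun k hk => ?_, Q.shift_sq hT0.2.1 _, by rw [Q.shift_trace]; exact hT0.2.2.1, fun a => ?_⟩
    · rw [shift, ← Matrix.mul_assoc, ← Matrix.mul_assoc, (Q.wt _).com k hk, Matrix.mul_assoc _ (Θ k),
        hT0.1 k hk, ← Matrix.mul_assoc, Matrix.mul_assoc _ (Θ k), (Q.wt _).com k hk,
        ← Matrix.mul_assoc]
    · refine ⟨(Q.om a (z ^ m) : ℂ) ^ 4, ?_⟩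
      have hc1 : ∀ x y, Q.E x * Q.E y = ((Q.om x y : ℂ) ^ 2) • (Q.E y * Q.E x) := fun x y => by
        rw [Q.mul, Q.mul, smul_smul, mul_comm y x, pow_two, mul_assoc, ← Units.val_mul, ← Units.val_mul,
          Q.om_swap, mul_one]
      rw [shift, ← Matrix.mul_assoc, ← Matrix.mul_assoc, hc1 a, Matrix.smul_mul, Matrix.smul_mul,
        Matrix.mul_assoc _ (Q.E a), hinv a, ← Matrix.mul_assoc, Matrix.mul_assoc _ (Q.E a⁻¹),
        hc1 a⁻¹, Matrix.mul_smul, smul_smul, ← Matrix.mul_assoc, Q.om_inv_left, Q.om_inv_right,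
        inv_inv]
      congr 1
      ring
  · have hfix : ∀ u, cj Θ (ac u) (Q.shift T0 (z ^ m)) = Q.shift T0 (z ^ m) := fun u => by
      rw [hsh, hx]
    obtain ⟨y, hy⟩ := Q.exists_shift hd hπ he hT0 hinv
      (Q.isPar_cj hθ htr hd hπ hβ (hT0))
    rw [Q.cj_shift hθ htr hd hπ hβ, hy, Q.shift_shift]
    set y' := act β (z ^ m) * y with hy'
    have hy2 : ∀ u, σ u y' * t u = y' := fun u => hinj (by
      rw [← hsh, hy', ← Q.shift_shift, ← hy, ← Q.cj_shift hθ htr hd hπ hβ,
        ← cj_comp Θ hθ htr (hac u) hβ, hcomm, cj_comp Θ hθ htr hβ (hac u), hfix])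
    have hq : y' * (z ^ m)⁻¹ = 1 := act_fixed_eq_one hθ htr hπ ac hac hcop hfpf fun u => by
      rw [← hσa, map_mul, map_inv]
      conv_rhs => rw [← hy2 u, ← hx u]
      rw [_root_.mul_inv, mul_mul_mul_comm, mul_inv_cancel, mul_one]
    rw [mul_inv_eq_one.1 hq]

end Sys

end Cfsg.Agent.BlocksChars.IsaacsOdd
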