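import Mathlib
import Cfsg.Agent.BlocksChars.IsaacsOdd.Frame
import Cfsg.Agent.Lib.CharTheory.Clifford

/-!
# Matrix models over a normal subgroup, and counting the characters over an invariant one
-/

set_option linter.style.haveILetI false
set_option linter.unusedSectionVars false

namespace Cfsg.Agent.BlocksChars.IsaacsOdd

open Matrix Cfsg.Agent.Characters Cfsg.Agent.CharTheory
open scoped Kronecker

universe u

variable {G : Type u} [Group G] [Finite G]

/-- An idempotent commuting with a representation cuts out a character. -/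
theorem isCharacter_trace_idem {ι : Type*} [Fintype ι] [DecidableEq ι]
    (M : G →* Matrix ι ι ℂ) (P : Matrix ι ι ℂ) (hP : P * P = P) (hc : ∀ g, P * M g = M g * P) :
    Cfsg.IsCharacter G fun g => (P * M g).trace := by
  let L := Matrix.toLinAlgEquiv' (R := ℂ) (n := ι)
  let ρ : Representation ℂ G (ι → ℂ) := L.toMulEquiv.toMonoidHom.comp M
  let U := LinearMap.range (L P)
  have hcomm : ∀ g v, L P (ρ g v) = ρ g (L P v) := fun g v => by
    show (L P * L (M g)) v = (L (M g) * L P) v
    rw [← map_mul, hc, map_mul]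
  have hU : IsInvariantUnder ρ U := isInvariantUnder_range (ρ := ρ) (σ := ρ) (L P) hcomm
  have hfix : ∀ u ∈ U, L P u = u := by
    rintro _ ⟨v, rfl⟩
    show (L P * L P) v = L P v
    rw [← map_mul, hP]
  have he : (fun g => (P * M g).trace) = (subRep ρ U hU).character := funext fun g => by
    have hmem : ∀ v, (L P * ρ g : Module.End ℂ (ι → ℂ)) v ∈ U := fun v => ⟨ρ g v, rfl⟩
    rw [Representation.character]
    rw [show subRep ρ U hU g = LinearMap.restrict (L P * ρ g) (fun v _ => hmem v) from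
      LinearMap.ext fun u => Subtype.ext (hfix _ (hU g u u.2)).symm,
      LinearMap.trace_restrict_eq_of_forall_mem U _ hmem,
      show (L P * ρ g : Module.End ℂ (ι → ℂ)) = L (P * M g) from (map_mul L _ _).symm]
    exact (Matrix.trace_toLin'_eq _).symm
  rw [he]
  exact isCharacter_character _

/-- A character over an invariant `θ` has a model in which `K` acts as copies of `Θ`. -/
theorem exists_model (K : Subgroup G) [K.Normal] [Fintype K] {d : ℕ}
    (Θ : K →* Matrix (Fin d) (Fin d) ℂ) {θ : K → ℂ} (hθ : Cfsg.IsIrrCharacter K θ)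
    (htr : ∀ k, (Θ k).trace = θ k) (hinv : ∀ g : G, Clifford.conjBy K g θ = θ) {χ : G → ℂ}
    (hχ : Cfsg.IsIrrCharacter G χ)
    (hover : Cfsg.classInner (fun k : K => χ k) θ ≠ 0) :
    ∃ (m : ℕ) (M : G →* Matrix (Fin m × Fin d) (Fin m × Fin d) ℂ),
      (m : ℂ) = Cfsg.classInner (fun k : K => χ k) θ ∧ (∀ g, (M g).trace = χ g) ∧
        ∀ k : K, M (k : G) = (1 : Matrix (Fin m) (Fin m) ℂ) ⊗ₖ Θ k := by
  haveI := Fintype.ofFinite G
  have hres := Clifford.restrict_eq_smul_of_invariant K hχ hθ hover hinv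
  obtain ⟨m, hm⟩ := classInner_char_nat (isCharacter_restrict K (isCharacter_of_isIrr hχ))
    (isCharacter_of_isIrr hθ)
  obtain ⟨n, ρ, -, hρ⟩ := hχ
  subst hρ
  let L := Matrix.toLinAlgEquiv' (R := ℂ) (n := Fin m × Fin d)
  let Λ : K →* Matrix (Fin m × Fin d) (Fin m × Fin d) ℂ :=
    { toFun := fun k => (1 : Matrix (Fin m) (Fin m) ℂ) ⊗ₖ Θ k
      map_one' := by rw [map_one, Matrix.one_kronecker_one]
      map_mul' := fun a b => by rw [map_mul, ← Matrix.mul_kronecker_mul, Matrix.one_mul] }
  let τ : Representation ℂ K (Fin m × Fin d → ℂ) := L.toMulEquiv.toMonoidHom.comp Λ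
  let σ : Representation ℂ K (Fin n → ℂ) := ρ.comp K.subtype
  have hts : τ.character = σ.character := funext fun k => by
    show LinearMap.trace ℂ _ (L (Λ k)) = ρ.character (k : G)
    rw [congrFun hres k, hm, Pi.smul_apply, smul_eq_mul, ← htr,
      show LinearMap.trace ℂ _ (L (Λ k)) = (Λ k).trace from Matrix.trace_toLin'_eq _]
    show ((1 : Matrix (Fin m) (Fin m) ℂ) ⊗ₖ Θ k).trace = _
    rw [Matrix.trace_kronecker, Matrix.trace_one, Fintype.card_fin]
  obtain ⟨e⟩ := nonempty_equiv_of_character_eq τ σ hts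
  let C := e.toLinearEquiv.symm.conjAlgEquiv ℂ
  refine ⟨m, (L.symm.toMulEquiv.toMonoidHom.comp
    (C.toMulEquiv.toMonoidHom.comp ρ)), hm.symm, fun g => ?_, fun k => L.injective ?_⟩
  · show (L.symm (C (ρ g))).trace = LinearMap.trace ℂ _ (ρ g)
    rw [← show LinearMap.trace ℂ _ (L (L.symm (C (ρ g)))) = _ from Matrix.trace_toLin'_eq _,
      L.apply_symm_apply]
    exact LinearMap.trace_conj' (ρ g) e.toLinearEquiv.symm
  · show L (L.symm (C (ρ (k : G)))) = τ k
    rw [L.apply_symm_apply]
    refine LinearMap.ext fun v => e.toLinearEquiv.injective ?_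
    rw [show C (ρ (k : G)) v = e.toLinearEquiv.symm (ρ (k : G) (e.toLinearEquiv v)) from rfl,
      LinearEquiv.apply_symm_apply]
    exact (LinearMap.congr_fun (e.toIntertwiningMap.isIntertwining' k) v).symm

/-- The multiplicities of the characters over an invariant `θ`. -/
theorem sum_mult_sq (N : Subgroup G) [N.Normal] [Fintype N] [Fintype (Cfsg.IrrCharacter G)]
    {θ : N → ℂ} (hθ : Cfsg.IsIrrCharacter N θ) (hinv : ∀ g : G, Clifford.conjBy N g θ = θ) :
    ∑ χ : Cfsg.IrrCharacter G, Cfsg.classInner (fun n : N => (χ : G → ℂ) n) θ *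
      Cfsg.classInner (fun n : N => (χ : G → ℂ) n) θ = (N.index : ℂ) := by
  haveI := Fintype.ofFinite G
  have h := classInner_eq_sum (Cfsg.indFun N θ) (indFun_isClassFunction N θ)
  rw [Clifford.classInner_indFun_self N hθ hinv] at h
  rw [h]
  refine Finset.sum_congr rfl fun χ _ => ?_
  rw [frobenius_reciprocity' N θ (irr_isClassFunction χ)]
  congr 1
  obtain ⟨m, hm⟩ := classInner_char_nat (isCharacter_restrict N (irr_isCharacter χ))
    (isCharacter_of_isIrr hθ)
  rw [classInner_conj_symm (χ : G → ℂ) (Cfsg.indFun N θ),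
    frobenius_reciprocity' N θ (irr_isClassFunction χ), hm, Complex.conj_natCast]

end Cfsg.Agent.BlocksChars.IsaacsOdd
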