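import Mathlib
import Cfsg.Agent.BlocksChars.IsaacsOdd.Fixed
import Cfsg.Agent.BlocksChars.IsaacsOdd.Model

/-!
# The trace twisted by a fixed parity operator

In a model of a character over `θ` the parity operator commutes with `H`; the twisted trace is a
class function on `H`, and twisted traces have the inner products of the characters.
-/

set_option linter.style.haveILetI false
set_option linter.unusedSectionVars false

namespace Cfsg.Agent.BlocksChars.IsaacsOdd

open Matrix Cfsg.Agent.Characters Cfsg.Agent.CharTheory Cfsg.Agent.BlocksChars.Arc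
open scoped Kronecker

universe u

variable {d : ℕ}

/-- `X ↦ 1 ⊗ X`. -/
noncomputable def lft (m : ℕ) :
    Matrix (Fin d) (Fin d) ℂ →ₗ[ℂ] Matrix (Fin m × Fin d) (Fin m × Fin d) ℂ where
  toFun X := (1 : Matrix (Fin m) (Fin m) ℂ) ⊗ₖ X
  map_add' X Y := Matrix.kronecker_add _ X Y
  map_smul' c X := Matrix.kronecker_smul c _ X

theorem lft_apply (m : ℕ) (X : Matrix (Fin d) (Fin d) ℂ) :
    lft m X = (1 : Matrix (Fin m) (Fin m) ℂ) ⊗ₖ X := rfl

theorem lft_mul (m : ℕ) (X Y : Matrix (Fin d) (Fin d) ℂ) : lft m (X * Y) = lft m X * lft m Y := by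
  rw [lft_apply, lft_apply, lft_apply, ← Matrix.mul_kronecker_mul, Matrix.one_mul]

theorem lft_one (m : ℕ) : lft m (1 : Matrix (Fin d) (Fin d) ℂ) = 1 := Matrix.one_kronecker_one

variable {G A : Type u} [Group G] [Finite G] [CommGroup A] [Finite A] {K H : Subgroup G} [K.Normal]
  {Θ : K →* Matrix (Fin d) (Fin d) ℂ} {π : K →* A}

/-- The hypotheses of the invariant case. -/
structure Inv (Θ : K →* Matrix (Fin d) (Fin d) ℂ) (π : K →* A) (H : Subgroup G) (θ : K → ℂ)
    (φ : π.ker → ℂ) (e : ℕ) (Q : Sys Θ π) (T : Matrix (Fin d) (Fin d) ℂ) : Prop where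
  irr : Cfsg.IsIrrCharacter K θ
  tr : ∀ k, (Θ k).trace = θ k
  surj : Function.Surjective π
  ker : ∀ k : K, k ∈ π.ker ↔ (k : G) ∈ H
  gen : ∀ g, ∃ k ∈ K, ∃ h ∈ H, g = k * h
  odd : Odd (Nat.card G)
  inv : ∀ g : G, Clifford.conjBy K g θ = θ
  irrker : Cfsg.IsIrrCharacter π.ker φ
  res : ∀ l : π.ker, θ l = (e : ℂ) * φ l
  par : Q.IsPar e T
  fix : ∀ h ∈ H, cj Θ (MulAut.conjNormal h) T = T

variable {θ : K → ℂ} {φ : π.ker → ℂ} {e : ℕ} {Q : Sys Θ π} {T : Matrix (Fin d) (Fin d) ℂ}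

namespace Inv

variable (D : Inv Θ π H θ φ e Q T)

include D in
theorem dpos : d ≠ 0 := dim_ne_zero Θ D.irr D.tr

include D in
theorem epos : e ≠ 0 := fun h => by
  have h1 := D.res 1
  rw [h, Nat.cast_zero, zero_mul, OneMemClass.coe_one] at h1
  exact irr_one_ne_zero D.irr h1

include D in
theorem char_conj (g : G) (k : K) : θ (MulAut.conjNormal g k) = θ k := by
  have h : Clifford.conjBy K g θ k = θ k := congrFun (D.inv g) k
  refine Eq.trans ?_ h
  rw [Clifford.conjBy_apply]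
  exact congrArg θ (Subtype.ext (MulAut.conjNormal_apply g k))

include D in
theorem isAut (u : H) : IsAut θ π (MulAut.conjNormal (u : G)) :=
  ⟨D.char_conj u, fun k => by
    rw [D.ker, D.ker, MulAut.conjNormal_apply, H.mul_mem_cancel_right (inv_mem u.2),
      H.mul_mem_cancel_left u.2]⟩

variable {m : ℕ} (M : G →* Matrix (Fin m × Fin d) (Fin m × Fin d) ℂ)
  (hM : ∀ k : K, M (k : G) = lft m (Θ k))

/-- The twisted trace. -/
noncomputable def fn (T : Matrix (Fin d) (Fin d) ℂ) (u : G) : ℂ := (lft m T * M u).trace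

include D hM in
theorem model_conj (g : G) (X : Matrix (Fin d) (Fin d) ℂ) :
    M g * lft m X = lft m (cj Θ (MulAut.conjNormal g) X) * M g := by
  refine LinearMap.congr_fun (f := (LinearMap.mulLeft ℂ (M g)).comp (lft m))
    (g := (LinearMap.mulRight ℂ (M g)).comp ((lft m).comp (cj Θ (MulAut.conjNormal g))))
    (LinearMap.ext_on_range (span_eq_top Θ D.irr D.tr) fun k => ?_) X
  simp only [LinearMap.comp_apply, LinearMap.mulLeft_apply, LinearMap.mulRight_apply,
    cj_apply Θ D.irr D.tr (D.char_conj g), ← hM, ← map_mul, MulAut.conjNormal_apply,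
    inv_mul_cancel_right]

include D hM in
theorem model_comm (u : H) : M (u : G) * lft m T = lft m T * M (u : G) := by
  rw [D.model_conj M hM, D.fix u u.2]

include D hM in
theorem model_inv (g : G) (X : Matrix (Fin d) (Fin d) ℂ) :
    M g⁻¹ * lft m (cj Θ (MulAut.conjNormal g) X) = lft m X * M g⁻¹ := by
  have h := congrArg (fun Z => M g⁻¹ * Z * M g⁻¹) (D.model_conj M hM g X)
  simp only [← Matrix.mul_assoc] at h
  rw [← map_mul, inv_mul_cancel, map_one, Matrix.one_mul] at h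
  rw [h]
  simp only [Matrix.mul_assoc]
  rw [← map_mul, mul_inv_cancel, map_one, Matrix.mul_one]

include D hM in
theorem fn_isClassFunction : Cfsg.IsClassFunction H fun u : H => fn M T u := by
  intro g h
  simp only [fn, Subgroup.coe_mul, Subgroup.coe_inv, map_mul]
  rw [Matrix.trace_mul_comm, Matrix.mul_assoc, Matrix.mul_assoc,
    show M (h : G)⁻¹ * lft m T = lft m T * M (h : G)⁻¹ from D.model_comm M hM h⁻¹,
    Matrix.trace_mul_comm]
  simp only [Matrix.mul_assoc]
  rw [← map_mul, inv_mul_cancel, map_one, Matrix.mul_one]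
  exact Matrix.trace_mul_comm _ _

include D hM in
/-- The twisted trace is a difference of characters adding up to the restriction. -/
theorem fn_split : ∃ a b : H → ℂ, Cfsg.IsCharacter H a ∧ Cfsg.IsCharacter H b ∧
    (fun u : H => fn M T u) = a - b ∧ (fun u : H => (M u).trace) = a + b := by
  set J := lft m T with hJ
  have hJ2 : J * J = 1 := by rw [hJ, ← lft_mul, D.par.2.1, lft_one]
  have hc : ∀ u : H, J * M u = M u * J := fun u => (D.model_comm M hM u).symm
  set P : Matrix (Fin m × Fin d) (Fin m × Fin d) ℂ := (2 : ℂ)⁻¹ • (1 + J) with hP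
  set P' : Matrix (Fin m × Fin d) (Fin m × Fin d) ℂ := (2 : ℂ)⁻¹ • (1 - J) with hP'
  have hPP : P * P = P := by
    rw [hP, Matrix.smul_mul, Matrix.mul_smul, smul_smul, Matrix.add_mul, Matrix.mul_add,
      Matrix.mul_add, hJ2, Matrix.one_mul, Matrix.mul_one, Matrix.one_mul]
    module
  have hPP' : P' * P' = P' := by
    rw [hP', Matrix.smul_mul, Matrix.mul_smul, smul_smul, Matrix.sub_mul, Matrix.mul_sub,
      Matrix.mul_sub, hJ2, Matrix.one_mul, Matrix.mul_one, Matrix.one_mul]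
    module
  refine ⟨fun u => (P * M u).trace, fun u => (P' * M u).trace,
    isCharacter_trace_idem (M.comp H.subtype) P hPP fun u => ?_,
    isCharacter_trace_idem (M.comp H.subtype) P' hPP' fun u => ?_, funext fun u => ?_,
    funext fun u => ?_⟩
  · rw [hP, Matrix.smul_mul, Matrix.mul_smul, Matrix.add_mul, Matrix.mul_add, Matrix.one_mul,
      Matrix.mul_one, MonoidHom.comp_apply, Subgroup.coe_subtype, hc]
  · rw [hP', Matrix.smul_mul, Matrix.mul_smul, Matrix.sub_mul, Matrix.mul_sub, Matrix.one_mul,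
      Matrix.mul_one, MonoidHom.comp_apply, Subgroup.coe_subtype, hc]
  · show (J * M u).trace = (P * M u).trace - (P' * M u).trace
    rw [← Matrix.trace_sub, ← Matrix.sub_mul, hP, hP']
    congr 2
    module
  · show (M u).trace = (P * M u).trace + (P' * M u).trace
    rw [← Matrix.trace_add, ← Matrix.add_mul, hP, hP']
    conv_lhs => rw [← Matrix.one_mul (M u)]
    congr 2
    module

include D in
theorem fn_one : fn M T 1 = (m : ℂ) * ((d : ℂ) / e) := by
  rw [fn, map_one, Matrix.mul_one, lft_apply, Matrix.trace_kronecker, Matrix.trace_one,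
    Fintype.card_fin, D.par.2.2.1]

include D in
theorem average_prod [Fintype (weights Θ π)] [Fintype π.ker] (Z : Matrix (Fin d) (Fin d) ℂ) :
    ∑ p : weights Θ π × π.ker, Q.E p.1 * Θ (p.2 : K) * Z * (Θ (p.2 : K)⁻¹ * Q.E p.1⁻¹) =
      ((Fintype.card (weights Θ π) : ℂ) * Fintype.card π.ker / d * Z.trace) •
        (1 : Matrix (Fin d) (Fin d) ℂ) := by
  set R := ∑ l : π.ker, Θ (l : K) * Z * Θ (l : K)⁻¹ with hR
  set S := ∑ b, Q.shift R b with hS
  have hsum : ∑ p : weights Θ π × π.ker,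
      Q.E p.1 * Θ (p.2 : K) * Z * (Θ (p.2 : K)⁻¹ * Q.E p.1⁻¹) = S := by
    rw [hS, Fintype.sum_prod_type]
    refine Finset.sum_congr rfl fun b _ => ?_
    rw [Sys.shift, hR, Finset.mul_sum, Finset.sum_mul]
    simp only [Matrix.mul_assoc]
  have hRc : Com Θ π R := fun k hk => by
    rw [hR, Finset.mul_sum, Finset.sum_mul]
    refine Fintype.sum_equiv (Equiv.mulLeft (⟨k, hk⟩ : π.ker)) _ _ fun l => ?_
    rw [Equiv.coe_mulLeft, Subgroup.coe_mul, _root_.mul_inv_rev, map_mul, map_mul]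
    simp only [Matrix.mul_assoc]
    rw [← map_mul, inv_mul_cancel, map_one, Matrix.mul_one]
  have hSc : Com Θ π S := fun k hk => by
    rw [hS, Finset.mul_sum, Finset.sum_mul]
    refine Finset.sum_congr rfl fun b _ => ?_
    rw [Sys.shift, ← Matrix.mul_assoc, ← Matrix.mul_assoc, (Q.wt b).com k hk,
      Matrix.mul_assoc _ (Θ k), hRc k hk, ← Matrix.mul_assoc, Matrix.mul_assoc _ (Θ k),
      (Q.wt _).com k hk, ← Matrix.mul_assoc]
  have hE : ∀ a, S * Q.E a = Q.E a * S := fun a => by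
    have h : Q.shift S a = S := by
      rw [hS, Sys.shift, Finset.mul_sum, Finset.sum_mul]
      exact Fintype.sum_equiv (Equiv.mulLeft a) _ _ fun b => Q.shift_shift R b a
    conv_lhs => rw [← h, Sys.shift, Matrix.mul_assoc, Q.inv_mul, Matrix.mul_one]
  obtain ⟨c, hc⟩ := centre_scalar D.irrker (e := e) (fun l => by rw [D.tr, D.res]) S hSc
    fun Y hY => by
      obtain ⟨y, rfl⟩ := Q.span Y hY
      rw [Finset.mul_sum, Finset.sum_mul]
      exact Finset.sum_congr rfl fun b _ => by rw [Matrix.mul_smul, Matrix.smul_mul, hE]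
  rw [hsum, hc]
  congr 1
  have ht := congrArg Matrix.trace hc
  have hRt : R.trace = (Fintype.card π.ker : ℂ) * Z.trace := by
    rw [hR, trace_sum, Finset.sum_congr rfl (g := fun _ => Z.trace) fun l _ => by
      rw [Matrix.trace_mul_comm, ← Matrix.mul_assoc, ← map_mul, inv_mul_cancel, map_one,
        Matrix.one_mul], Finset.sum_const, Finset.card_univ, nsmul_eq_mul]
  rw [hS, trace_sum, Finset.sum_congr rfl (g := fun _ => R.trace) fun b _ => Q.shift_trace R b,
    Finset.sum_const, Finset.card_univ, nsmul_eq_mul, hRt, trace_smul, trace_one, Fintype.card_fin,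
    smul_eq_mul] at ht
  have hd : (d : ℂ) ≠ 0 := Nat.cast_ne_zero.2 D.dpos
  field_simp
  linear_combination -ht

include D in
/-- The map `x ↦ x⁻¹ (u x)⁻¹` on weights is a bijection. -/
theorem twist_bijective (u : H) :
    Function.Bijective fun x : weights Θ π =>
      x⁻¹ * (act (MulAut.conjNormal (u : G)) x)⁻¹ := by
  set α : MulAut K := MulAut.conjNormal (u : G) with hα
  have hau : IsAut θ π α := D.isAut u
  refine Finite.injective_iff_bijective.1 fun x y h => ?_
  replace h : x⁻¹ * (act α x)⁻¹ = y⁻¹ * (act α y)⁻¹ := h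
  set q := x * y⁻¹ with hq
  have hq1 : act α q = q⁻¹ := by
    rw [hq, act_mul D.irr D.tr D.surj hau, act_inv D.irr D.tr D.surj hau]
    rw [← _root_.mul_inv_rev, ← _root_.mul_inv_rev, _root_.inv_inj] at h
    rw [eq_inv_iff_mul_eq_one, mul_mul_mul_comm, h, ← _root_.mul_inv_rev, mul_comm y, mul_inv_cancel]
  have hpow : ∀ j : ℕ, IsAut θ π (α ^ j) := fun j => by
    induction j with
    | zero => exact ⟨fun _ => rfl, fun _ => Iff.rfl⟩
    | succ i hi => rw [pow_succ]; exact hi.mul hau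
  have heven : ∀ j : ℕ, act (α ^ (2 * j)) q = q := fun j => by
    induction j with
    | zero => exact act_id D.irr D.tr D.surj q
    | succ i hi =>
      rw [Nat.mul_succ, pow_add, act_comp D.irr D.tr D.surj (hpow _) (hpow 2), pow_two,
        act_comp D.irr D.tr D.surj hau hau, hq1, act_inv D.irr D.tr D.surj hau, hq1, inv_inv, hi]
  obtain ⟨j, hj⟩ := D.odd
  have h1 : α ^ (2 * j + 1) = 1 := by rw [hα, ← hj, ← map_pow, pow_card_eq_one', map_one]
  have h2 := act_id D.irr D.tr D.surj q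
  rw [← h1, pow_succ', act_comp D.irr D.tr D.surj hau (hpow _), heven, hq1] at h2
  have h3 : q = 1 := Q.eq_one_of_sq (inv_eq_iff_mul_eq_one.1 h2)
  exact mul_inv_eq_one.1 h3

variable {m' : ℕ} (M' : G →* Matrix (Fin m' × Fin d) (Fin m' × Fin d) ℂ)
  (hM' : ∀ k : K, M' (k : G) = lft m' (Θ k))

include D hM hM' in
theorem twist_term (u : H) (b : weights Θ π) :
    (lft m (T * Q.E b) * M u).trace * (M' (u : G)⁻¹ * lft m' (Q.E b⁻¹ * T)).trace =
      fn M T u * fn M' T (u : G)⁻¹ := by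
  obtain ⟨x, rfl⟩ := (D.twist_bijective u).2 b
  set α : MulAut K := MulAut.conjNormal (u : G) with hα
  have hau : IsAut θ π α := D.isAut u
  set y := x⁻¹ * (act α x)⁻¹ with hy
  have hd := D.dpos
  set Z := Q.E x * T * cj Θ α (Q.E x⁻¹) with hZ
  set W := cj Θ α (Q.E x) * T * Q.E x⁻¹ with hW
  have hWZ : W * Z = 1 := by
    rw [hW, hZ]
    simp only [Matrix.mul_assoc]
    rw [← Matrix.mul_assoc (Q.E x⁻¹), Q.inv_mul, Matrix.one_mul, ← Matrix.mul_assoc T,
      D.par.2.1, Matrix.one_mul, ← cj_mul Θ D.irr D.tr hau.char, Q.mul_inv,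
      cj_map_one Θ D.irr D.tr hau.char]
  obtain ⟨w, hw⟩ : ∃ w : ℂ, Z = w • (T * Q.E y) := by
    obtain ⟨c, hc⟩ := D.par.2.2.2 x
    obtain ⟨z, -, hz⟩ := Q.cj_E D.irr D.tr hd D.surj hau x⁻¹
    rw [act_inv D.irr D.tr D.surj hau] at hz
    refine ⟨z * c * (Q.om x⁻¹ (act α x)⁻¹ : ℂ), ?_⟩
    rw [hZ, hc, hz, Matrix.mul_smul, Matrix.smul_mul, Matrix.mul_assoc, Q.mul, Matrix.mul_smul,
      smul_smul, smul_smul, hy]
  have hinv : (T * Q.E y) * (Q.E y⁻¹ * T) = 1 := by
    rw [Matrix.mul_assoc, ← Matrix.mul_assoc (Q.E y), Q.mul_inv, Matrix.one_mul, D.par.2.1]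
  have hw0 : w ≠ 0 := fun h0 => by
    haveI : Nonempty (Fin d) := Fin.pos_iff_nonempty.1 (Nat.pos_of_ne_zero hd)
    rw [hw, h0, zero_smul, Matrix.mul_zero] at hWZ
    exact zero_ne_one hWZ
  have hW' : W = w⁻¹ • (Q.E y⁻¹ * T) := by
    have h : W * ((w • (T * Q.E y)) * (Q.E y⁻¹ * T)) = w • W := by
      rw [Matrix.smul_mul, hinv, Matrix.mul_smul, Matrix.mul_one]
    rw [← Matrix.mul_assoc, ← hw, hWZ, Matrix.one_mul] at h
    rw [h, smul_smul, inv_mul_cancel₀ hw0, one_smul]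
  have e1 : (lft m Z * M u).trace = fn M T u := by
    rw [hZ, lft_mul, lft_mul, Matrix.mul_assoc, ← D.model_conj M hM, ← Matrix.mul_assoc,
      Matrix.trace_mul_comm, ← Matrix.mul_assoc, ← Matrix.mul_assoc, ← lft_mul, Q.inv_mul, lft_one,
      Matrix.one_mul, fn]
  have e2 : (M' (u : G)⁻¹ * lft m' W).trace = fn M' T (u : G)⁻¹ := by
    rw [hW, lft_mul, lft_mul, ← Matrix.mul_assoc, ← Matrix.mul_assoc, D.model_inv M' hM',
      Matrix.trace_mul_comm, ← Matrix.mul_assoc, ← Matrix.mul_assoc, ← lft_mul, Q.inv_mul, lft_one,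
      Matrix.one_mul, Matrix.trace_mul_comm, fn]
  rw [← e1, ← e2, hw, hW', map_smul, map_smul, Matrix.smul_mul, Matrix.mul_smul, trace_smul,
    trace_smul, smul_eq_mul, smul_eq_mul]
  rw [mul_mul_mul_comm, mul_inv_cancel₀ hw0, one_mul]

include D hM hM' in
/-- The sum over a coset of `K`. -/
theorem coset_sum [Fintype K] [Fintype π.ker] (h : H) :
    (Fintype.card π.ker : ℂ) *
        ∑ k : K, (M ((k : G) * h)).trace * (M' ((k : G) * h)⁻¹).trace =
      (Fintype.card K : ℂ) *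
        ∑ l : π.ker, fn M T ((l : K) * h : G) * fn M' T ((l : K) * h : G)⁻¹ := by
  classical
  haveI := Fintype.ofFinite (weights Θ π)
  let X : Matrix (Fin d) (Fin d) ℂ →ₗ[ℂ] ℂ :=
    (Matrix.traceLinearMap (Fin m × Fin d) ℂ ℂ).comp
      ((LinearMap.mulRight ℂ (M (h : G))).comp (lft m))
  let Y : Matrix (Fin d) (Fin d) ℂ →ₗ[ℂ] ℂ :=
    (Matrix.traceLinearMap (Fin m' × Fin d) ℂ ℂ).comp
      ((LinearMap.mulLeft ℂ (M' (h : G)⁻¹)).comp (lft m'))
  have hXk : ∀ k : K, X (Θ k) = (M ((k : G) * h)).trace := fun k => by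
    show (lft m (Θ k) * M (h : G)).trace = _
    rw [← hM, ← map_mul]
  have hYk : ∀ k : K, Y (Θ k⁻¹) = (M' ((k : G) * h)⁻¹).trace := fun k => by
    show (M' (h : G)⁻¹ * lft m' (Θ k⁻¹)).trace = _
    rw [← hM', Subgroup.coe_inv, ← map_mul, _root_.mul_inv_rev]
  have hK := frame Θ D.irr D.tr X Y
  simp only [hXk, hYk] at hK
  have hav := fun Z => D.average_prod (Z := Z)
  have hB := frame_of_average (fun p : weights Θ π × π.ker => Q.E p.1 * Θ (p.2 : K))
    (fun p => Θ (p.2 : K)⁻¹ * Q.E p.1⁻¹) _ hav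
    (X.comp (LinearMap.mulLeft ℂ T)) (Y.comp (LinearMap.mulRight ℂ T))
  rw [pairing_left_right X Y T T D.par.2.1] at hB
  have hterm : ∀ p : weights Θ π × π.ker,
      (X.comp (LinearMap.mulLeft ℂ T)) (Q.E p.1 * Θ (p.2 : K)) *
        (Y.comp (LinearMap.mulRight ℂ T)) (Θ (p.2 : K)⁻¹ * Q.E p.1⁻¹) =
      fn M T ((p.2 : K) * h : G) * fn M' T ((p.2 : K) * h : G)⁻¹ := fun p => by
    have hu : ((p.2 : K) : G) * h ∈ H := H.mul_mem ((D.ker _).1 p.2.2) h.2
    refine Eq.trans ?_ (D.twist_term M hM M' hM' ⟨_, hu⟩ p.1)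
    show (lft m (T * (Q.E p.1 * Θ (p.2 : K))) * M (h : G)).trace *
        (M' (h : G)⁻¹ * lft m' (Θ (p.2 : K)⁻¹ * Q.E p.1⁻¹ * T)).trace =
      (lft m (T * Q.E p.1) * M (((p.2 : K) : G) * h)).trace *
        (M' (((p.2 : K) : G) * h)⁻¹ * lft m' (Q.E p.1⁻¹ * T)).trace
    rw [← Matrix.mul_assoc T, lft_mul m (T * Q.E p.1), Matrix.mul_assoc (Θ _), lft_mul m', ← hM,
      ← hM', Subgroup.coe_inv, Matrix.mul_assoc, ← map_mul, ← Matrix.mul_assoc (M' (h : G)⁻¹),
      ← map_mul, ← _root_.mul_inv_rev]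
  rw [Finset.sum_congr rfl fun p _ => hterm p, Fintype.sum_prod_type] at hB
  dsimp only at hB
  rw [Finset.sum_const,
    Finset.card_univ, nsmul_eq_mul] at hB
  have hB0 : (Fintype.card (weights Θ π) : ℂ) ≠ 0 := Nat.cast_ne_zero.2 Fintype.card_ne_zero
  have hd : (d : ℂ) ≠ 0 := Nat.cast_ne_zero.2 D.dpos
  rw [hK]
  refine mul_left_cancel₀ hB0 ?_
  rw [mul_left_comm _ (Fintype.card K : ℂ), hB]
  field_simp

end Inv

end Cfsg.Agent.BlocksChars.IsaacsOdd
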