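import Mathlib
import Cfsg.Agent.BlocksChars.IsaacsOdd.Twist
import Cfsg.Agent.Lib.CharTheory.Basics

/-!
# The correspondence of the invariant case

The twisted trace is an irreducible character of `H`, the unique constituent of the restriction
with odd multiplicity; degrees show that all characters over `φ` occur.
-/

set_option linter.style.haveILetI false
set_option linter.unusedSectionVars false

namespace Cfsg.Agent.BlocksChars.IsaacsOdd

open Matrix Cfsg.Agent.Characters Cfsg.Agent.CharTheory Cfsg.Agent.BlocksChars.Arc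
open scoped Kronecker ComplexConjugate

universe u

/-- Odd multiplicity. -/
def OddCon {H : Type u} [Group H] [Fintype H] (F ψ : H → ℂ) : Prop :=
  ∃ n : ℕ, Cfsg.classInner F ψ = (n : ℂ) ∧ Odd n

variable {d : ℕ} {G A : Type u} [Group G] [Finite G] [CommGroup A] [Finite A] {K H : Subgroup G}
  [K.Normal] {Θ : K →* Matrix (Fin d) (Fin d) ℂ} {π : K →* A} {θ : K → ℂ} {φ : π.ker → ℂ} {e : ℕ}
  {Q : Sys Θ π} {T : Matrix (Fin d) (Fin d) ℂ}

namespace Inv

variable (D : Inv Θ π H θ φ e Q T)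

include D in
/-- `H ∩ K` inside `H` is the kernel of `π`. -/
noncomputable def kerEquiv : K.subgroupOf H ≃* π.ker where
  toFun l := ⟨⟨((l : H) : G), l.2⟩, (D.ker _).2 (l : H).2⟩
  invFun x := ⟨⟨((x : K) : G), (D.ker _).1 x.2⟩, (x : K).2⟩
  left_inv _ := rfl
  right_inv _ := rfl
  map_mul' _ _ := rfl

/-- `φ` as a character of `H ∩ K` inside `H`. -/
noncomputable def base : K.subgroupOf H → ℂ := φ ∘ D.kerEquiv

theorem base_irr : Cfsg.IsIrrCharacter (K.subgroupOf H) D.base :=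
  Basics.isIrrCharacter_comp_equiv D.kerEquiv D.irrker

theorem base_res (l : K.subgroupOf H) :
    θ ⟨((l : H) : G), l.2⟩ = (e : ℂ) * D.base l := D.res (D.kerEquiv l)

theorem base_inv (h : H) : Clifford.conjBy (K.subgroupOf H) h D.base = D.base := by
  funext l
  refine mul_left_cancel₀ (Nat.cast_ne_zero.2 D.epos : (e : ℂ) ≠ 0) ?_
  rw [Clifford.conjBy_apply, ← D.base_res, ← D.base_res, ← congrFun (D.inv (h : G)) ⟨((l : H) : G), l.2⟩,
    Clifford.conjBy_apply]
  rfl

variable [Fintype K] [Fintype H]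

include D in
theorem sum_coset [Fintype G] [Fintype π.ker] (F : G → ℂ) :
    ∑ h : H, ∑ k : K, F ((k : G) * h) = (Fintype.card π.ker : ℂ) * ∑ g, F g := by
  choose a ha b hb hab using D.gen
  let f : G × π.ker → H × K := fun p =>
    (⟨(((p.2 : K))⁻¹ : K) * b p.1, H.mul_mem (H.inv_mem ((D.ker _).1 p.2.2)) (hb p.1)⟩,
      ⟨a p.1, ha p.1⟩ * (p.2 : K))
  have hf : ∀ p, ((f p).2 : G) * (f p).1 = p.1 := fun p => by
    show (a p.1 * ((p.2 : K) : G)) * ((((p.2 : K))⁻¹ : K) * b p.1 : G) = p.1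
    rw [Subgroup.coe_inv, mul_assoc, mul_inv_cancel_left, ← hab]
  have hinj : Function.Injective f := fun p q h => by
    have h1 : p.1 = q.1 := by rw [← hf p, h, hf q]
    have h2 : (f p).2 = (f q).2 := congrArg Prod.snd h
    refine Prod.ext h1 (Subtype.ext ?_)
    simp only [f, h1] at h2
    exact mul_left_cancel h2
  have hsurj : Function.Surjective f := fun p => by
    set g : G := (p.2 : G) * p.1 with hg
    have hl : (⟨a g, ha g⟩⁻¹ * p.2 : K) ∈ π.ker := by
      rw [D.ker]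
      have h1 : (a g)⁻¹ * (p.2 : G) = b g * (p.1 : G)⁻¹ := by
        rw [inv_mul_eq_iff_eq_mul, ← mul_assoc, ← hab, hg, mul_inv_cancel_right]
      rw [Subgroup.coe_mul, Subgroup.coe_inv, h1]
      exact H.mul_mem (hb g) (H.inv_mem p.1.2)
    refine ⟨(g, ⟨_, hl⟩), ?_⟩
    have h2 : (f (g, ⟨_, hl⟩)).2 = p.2 := mul_inv_cancel_left _ _
    refine Prod.ext (Subtype.ext ?_) h2
    have h3 := hf (g, ⟨_, hl⟩)
    rw [h2] at h3
    exact mul_left_cancel h3
  rw [← Fintype.sum_prod_type (f := fun p : H × K => F ((p.2 : G) * p.1)),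
    ← Fintype.sum_equiv (Equiv.ofBijective f ⟨hinj, hsurj⟩) (fun p => F p.1) _ fun p => by
      show F p.1 = F (((f p).2 : G) * (f p).1)
      rw [hf],
    Fintype.sum_prod_type]
  simp [Finset.mul_sum]

variable {m : ℕ} (M : G →* Matrix (Fin m × Fin d) (Fin m × Fin d) ℂ)
  (hM : ∀ k : K, M (k : G) = lft m (Θ k))
  {m' : ℕ} (M' : G →* Matrix (Fin m' × Fin d) (Fin m' × Fin d) ℂ)
  (hM' : ∀ k : K, M' (k : G) = lft m' (Θ k))

include D hM hM' in
/-- Twisted traces have the inner products of the characters. -/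
theorem classInner_fn [Fintype G] {χ χ' : G → ℂ} (hχ : ∀ g, (M g).trace = χ g)
    (hχ' : ∀ g, (M' g).trace = χ' g) (hc : Cfsg.IsCharacter G χ') :
    Cfsg.classInner (fun u : H => fn M T u) (fun u : H => fn M' T u) =
      Cfsg.classInner χ χ' := by
  haveI := Fintype.ofFinite π.ker
  have hconj : ∀ u : H, fn M' T (u : G)⁻¹ = conj (fn M' T u) := fun u => by
    obtain ⟨a, b, ha, hb, hab, -⟩ := D.fn_split M' hM'
    have h1 := congrFun hab u⁻¹
    have h2 := congrFun hab u
    simp only [Pi.sub_apply, Subgroup.coe_inv] at h1 h2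
    rw [h1, h2, map_sub, char_inv ha, char_inv hb]
  set SG := ∑ g, χ g * conj (χ' g) with hSG
  set SH := ∑ u : H, fn M T u * conj (fn M' T u) with hSH
  have key : (Fintype.card π.ker : ℂ) * SG = (Fintype.card K : ℂ) * SH := by
    have hL : (Fintype.card π.ker : ℂ) ≠ 0 := Nat.cast_ne_zero.2 Fintype.card_ne_zero
    refine mul_left_cancel₀ hL ?_
    rw [hSG, ← D.sum_coset, Finset.mul_sum]
    rw [Finset.sum_congr rfl (g := fun h : H => (Fintype.card K : ℂ) *
      ∑ l : π.ker, fn M T (((l : K) : G) * h) * fn M' T (((l : K) : G) * h)⁻¹) fun h _ => by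
        rw [← D.coset_sum M hM M' hM' h]
        congr 1
        refine Finset.sum_congr rfl fun k _ => ?_
        rw [hχ, hχ', char_inv hc]]
    rw [← Finset.mul_sum, Finset.sum_comm, mul_left_comm]
    congr 1
    rw [Finset.sum_congr rfl (g := fun _ => SH), Finset.sum_const, Finset.card_univ, nsmul_eq_mul]
    intro l _
    rw [hSH]
    refine Fintype.sum_equiv (Equiv.mulLeft ⟨((l : K) : G), (D.ker _).1 l.2⟩) _ _ fun h => ?_
    rw [Equiv.coe_mulLeft, ← hconj]
    rfl
  have hcard : (Fintype.card π.ker : ℂ) * (Nat.card G : ℂ) =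
      (Fintype.card K : ℂ) * (Nat.card H : ℂ) := by
    have h := D.sum_coset fun _ => 1
    simp only [Finset.sum_const, Finset.card_univ, nsmul_eq_mul, mul_one] at h
    rw [Nat.card_eq_fintype_card, Nat.card_eq_fintype_card, ← h, mul_comm]
  rw [classInner_def, classInner_def, ← hSG, ← hSH]
  have hK : (Fintype.card K : ℂ) ≠ 0 := Nat.cast_ne_zero.2 Fintype.card_ne_zero
  have hH : (Nat.card H : ℂ) ≠ 0 := natCard_ne_zero
  have hG : (Nat.card G : ℂ) ≠ 0 := natCard_ne_zero
  field_simp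
  refine mul_left_cancel₀ hK ?_
  linear_combination (-(Nat.card G : ℂ)) * key + SG * hcard

include D in
theorem index_eq [Fintype G] : (K.subgroupOf H).index = K.index := by
  haveI := Fintype.ofFinite π.ker
  have h := D.sum_coset fun _ => 1
  simp only [Finset.sum_const, Finset.card_univ, nsmul_eq_mul, mul_one] at h
  rw [← Nat.card_eq_fintype_card, ← Nat.card_eq_fintype_card, ← Nat.card_eq_fintype_card,
    ← Nat.card_eq_fintype_card, ← Nat.cast_mul, ← Nat.cast_mul, Nat.cast_inj,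
    ← Subgroup.index_mul_card (K.subgroupOf H), ← Subgroup.index_mul_card K,
    Nat.card_congr D.kerEquiv.toEquiv] at h
  refine Nat.eq_of_mul_eq_mul_right (m := Nat.card π.ker * Nat.card K) ?_ ?_
  · exact Nat.mul_pos Nat.card_pos Nat.card_pos
  · linarith [h]

include D in
/-- The image of a character over `θ`. -/
theorem exists_image [Fintype G] [Fintype (K.subgroupOf H)] {χ : G → ℂ} (hχ : Cfsg.IsIrrCharacter G χ)
    (hover : Cfsg.classInner (fun k : K => χ k) θ ≠ 0) :
    ∃ ψ : H → ℂ, Cfsg.IsIrrCharacter H ψ ∧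
      (∀ η, Cfsg.IsIrrCharacter H η → (OddCon (fun u : H => χ u) η ↔ η = ψ)) ∧
      (∃ (m : ℕ) (M : G →* Matrix (Fin m × Fin d) (Fin m × Fin d) ℂ),
        (∀ g, (M g).trace = χ g) ∧ (∀ k : K, M (k : G) = lft m (Θ k)) ∧
          ψ = fun u : H => fn M T u) ∧
      Cfsg.classInner (fun l : K.subgroupOf H => ψ l) D.base =
        Cfsg.classInner (fun k : K => χ k) θ := by
  classical
  obtain ⟨m, M, hm, hMtr, hM⟩ := exists_model K Θ D.irr D.tr D.inv hχ hover
  have hM' : ∀ k : K, M (k : G) = lft m (Θ k) := hM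
  obtain ⟨a, b, ha, hb, hab, habs⟩ := D.fn_split M hM'
  simp only [hMtr] at habs
  have hgen : Cfsg.IsGeneralizedCharacter H (fun u : H => fn M T u) := by
    rw [hab]; exact isGen_sub (isGen_of_isCharacter ha) (isGen_of_isCharacter hb)
  have hnorm : Cfsg.classInner (fun u : H => fn M T u) (fun u : H => fn M T u) = 1 := by
    rw [D.classInner_fn M hM' M hM' hMtr hMtr (isCharacter_of_isIrr hχ), classInner_isIrr_self hχ]
  have hm0 : m ≠ 0 := fun h => hover (by rw [← hm, h, Nat.cast_zero])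
  have he0 : (e : ℂ) ≠ 0 := Nat.cast_ne_zero.2 D.epos
  have hψ : Cfsg.IsIrrCharacter H (fun u : H => fn M T u) := by
    refine isIrr_of_gen_norm_one hgen hnorm ?_
    show 0 < (fn M T ((1 : H) : G)).re
    rw [OneMemClass.coe_one, D.fn_one,
      show (m : ℂ) * ((d : ℂ) / e) = (((m : ℝ) * ((d : ℝ) / e) : ℝ) : ℂ) by push_cast; rfl,
      Complex.ofReal_re]
    exact mul_pos (by exact_mod_cast Nat.pos_of_ne_zero hm0)
      (div_pos (by exact_mod_cast Nat.pos_of_ne_zero D.dpos)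
        (by exact_mod_cast Nat.pos_of_ne_zero D.epos))
  set ψ : H → ℂ := fun u : H => fn M T u with hψdef
  have hodd : ∀ η, Cfsg.IsIrrCharacter H η → (OddCon (fun u : H => χ u) η ↔ η = ψ) := by
    intro η hη
    obtain ⟨i, hi⟩ := classInner_char_nat ha (isCharacter_of_isIrr hη)
    obtain ⟨j, hj⟩ := classInner_char_nat hb (isCharacter_of_isIrr hη)
    have hs : Cfsg.classInner (fun u : H => χ u) η = ((i + j : ℕ) : ℂ) := by
      rw [habs, classInner_add_left, hi, hj, Nat.cast_add]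
    have hd' : Cfsg.classInner ψ η = (i : ℂ) - j := by
      rw [hab, classInner_sub_left, hi, hj]
    constructor
    · rintro ⟨n, hn, hnodd⟩
      by_contra hne
      rw [classInner_isIrr_ne hψ hη (Ne.symm hne), eq_comm, sub_eq_zero, Nat.cast_inj] at hd'
      rw [hs, Nat.cast_inj] at hn
      subst hn hd'
      exact (Nat.not_odd_iff_even.2 ⟨i, rfl⟩) hnodd
    · rintro rfl
      rw [classInner_isIrr_self hψ, eq_comm, sub_eq_iff_eq_add] at hd'
      have hij : i = 1 + j := by exact_mod_cast hd'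
      exact ⟨_, hs, by subst hij; exact ⟨j, by omega⟩⟩
  refine ⟨ψ, hψ, hodd, ⟨m, M, hMtr, hM', rfl⟩, ?_⟩
  obtain ⟨n, hn, hnodd⟩ := (hodd ψ hψ).2 rfl
  obtain ⟨ρ, hρ, hsplit⟩ := Basics.eq_smul_of_degree
    (isCharacter_restrict H (isCharacter_of_isIrr hχ)) hψ hn
  have hresL : ∀ l : K.subgroupOf H, χ ((l : H) : G) = ((m * e : ℕ) : ℂ) * D.base l := by
    intro l
    have h1 := congrFun (Clifford.restrict_eq_smul_of_invariant K hχ D.irr hover D.inv)
      ⟨((l : H) : G), l.2⟩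
    rw [Pi.smul_apply, smul_eq_mul, ← hm, D.base_res, ← mul_assoc, ← Nat.cast_mul] at h1
    exact h1
  have hψL : ∀ l : K.subgroupOf H, ψ l =
      Cfsg.classInner (fun l : K.subgroupOf H => ψ l) D.base * D.base l := by
    have hψc := isCharacter_restrict (K.subgroupOf H) (isCharacter_of_isIrr hψ)
    have hbc := isCharacter_of_isIrr D.base_irr
    intro l
    refine congrFun (classFun_ext (f := fun l : K.subgroupOf H => ψ (l : H))
      (f' := Cfsg.classInner (fun l : K.subgroupOf H => ψ l) D.base • D.base)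
      (char_isClassFunction hψc) (fun g h => ?_) fun η hη => ?_) l
    · simp only [Pi.smul_apply, char_isClassFunction hbc g h]
    rw [classInner_smul_left]
    by_cases he : D.base = η
    · rw [← he, classInner_isIrr_self D.base_irr, mul_one]
    rw [classInner_isIrr_ne D.base_irr hη he, mul_zero]
    obtain ⟨p, hp⟩ := classInner_char_nat hψc (isCharacter_of_isIrr hη)
    obtain ⟨q, hq⟩ := classInner_char_nat (isCharacter_restrict (K.subgroupOf H) hρ)
      (isCharacter_of_isIrr hη)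
    have hfun : ((m * e : ℕ) : ℂ) • D.base =
        (n : ℂ) • (fun l : K.subgroupOf H => ψ l) + fun l : K.subgroupOf H => ρ l := funext fun l => by
      rw [Pi.smul_apply, smul_eq_mul, ← hresL]
      exact congrFun hsplit (l : H)
    have h2 := congrArg (fun F => Cfsg.classInner F η) hfun
    simp only [classInner_smul_left, classInner_add_left, hp, hq,
      classInner_isIrr_ne D.base_irr hη he, mul_zero] at h2
    have h3 : n * p + q = 0 := by exact_mod_cast h2.symm
    have hn0 : n ≠ 0 := fun h => by rw [h] at hnodd; exact Nat.not_odd_zero hnodd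
    rw [hp, show p = 0 by simpa [hn0] using Nat.eq_zero_of_add_eq_zero_right h3, Nat.cast_zero]
  have h1 := hψL 1
  rw [OneMemClass.coe_one, hψdef] at h1
  simp only [OneMemClass.coe_one] at h1
  rw [D.fn_one] at h1
  have hd : (d : ℂ) = (e : ℂ) * D.base 1 := by
    rw [← D.base_res]
    show (d : ℂ) = θ 1
    rw [← D.tr, map_one, Matrix.trace_one, Fintype.card_fin]
  rw [hd, mul_div_cancel_left₀ _ he0] at h1
  rw [← hm]
  exact (mul_right_cancel₀ (irr_one_ne_zero D.base_irr) h1).symm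

include D in
/-- The invariant case. -/
theorem correspondence [Fintype G] [Fintype (K.subgroupOf H)] :
    (∀ χ : G → ℂ, Cfsg.IsIrrCharacter G χ → Cfsg.classInner (fun k : K => χ k) θ ≠ 0 →
      ∃ ψ : H → ℂ, Cfsg.IsIrrCharacter H ψ ∧
        Cfsg.classInner (fun l : K.subgroupOf H => ψ l) D.base ≠ 0 ∧
        OddCon (fun u : H => χ u) ψ ∧
        ∀ η, Cfsg.IsIrrCharacter H η → OddCon (fun u : H => χ u) η → η = ψ) ∧
    (∀ χ χ' : G → ℂ, Cfsg.IsIrrCharacter G χ → Cfsg.IsIrrCharacter G χ' →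
      Cfsg.classInner (fun k : K => χ k) θ ≠ 0 → Cfsg.classInner (fun k : K => χ' k) θ ≠ 0 →
      ∀ ψ, Cfsg.IsIrrCharacter H ψ → OddCon (fun u : H => χ u) ψ → OddCon (fun u : H => χ' u) ψ →
        χ = χ') ∧
    ∀ ψ, Cfsg.IsIrrCharacter H ψ → Cfsg.classInner (fun l : K.subgroupOf H => ψ l) D.base ≠ 0 →
      ∃ χ : G → ℂ, Cfsg.IsIrrCharacter G χ ∧ Cfsg.classInner (fun k : K => χ k) θ ≠ 0 ∧
        OddCon (fun u : H => χ u) ψ := by
  classical
  have hinj : ∀ χ χ' : G → ℂ, Cfsg.IsIrrCharacter G χ → Cfsg.IsIrrCharacter G χ' →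
      Cfsg.classInner (fun k : K => χ k) θ ≠ 0 → Cfsg.classInner (fun k : K => χ' k) θ ≠ 0 →
      ∀ ψ, Cfsg.IsIrrCharacter H ψ → OddCon (fun u : H => χ u) ψ → OddCon (fun u : H => χ' u) ψ →
        χ = χ' := by
    intro χ χ' hχ hχ' ho ho' ψ hψ h h'
    obtain ⟨f, hf, hfu, ⟨m, M, hMt, hM, rfl⟩, -⟩ := D.exists_image hχ ho
    obtain ⟨f', hf', hfu', ⟨m', M', hMt', hM', rfl⟩, -⟩ := D.exists_image hχ' ho'
    have h1 := D.classInner_fn M hM M' hM' hMt hMt' (isCharacter_of_isIrr hχ')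
    rw [← (hfu ψ hψ).1 h, ← (hfu' ψ hψ).1 h', classInner_isIrr_self hψ] at h1
    by_contra hne
    rw [classInner_isIrr_ne hχ hχ' hne] at h1
    exact one_ne_zero h1
  refine ⟨fun χ hχ ho => ?_, hinj, fun ψ hψ hψo => ?_⟩
  · obtain ⟨f, hf, hfu, -, hmult⟩ := D.exists_image hχ ho
    exact ⟨f, hf, hmult ▸ ho, (hfu f hf).2 rfl, fun η hη h => (hfu η hη).1 h⟩
  haveI := Fintype.ofFinite (Cfsg.IrrCharacter G)
  haveI := Fintype.ofFinite (Cfsg.IrrCharacter H)
  choose mG hmG using fun χ : Cfsg.IrrCharacter G =>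
    classInner_char_nat (isCharacter_restrict K (irr_isCharacter χ)) (isCharacter_of_isIrr D.irr)
  choose mH hmH using fun η : Cfsg.IrrCharacter H =>
    classInner_char_nat (isCharacter_restrict (K.subgroupOf H) (irr_isCharacter η))
      (isCharacter_of_isIrr D.base_irr)
  have hsum : ∑ χ, mG χ * mG χ = ∑ η, mH η * mH η := by
    have h1 := sum_mult_sq K D.irr D.inv
    have h2 := sum_mult_sq (K.subgroupOf H) D.base_irr D.base_inv
    simp only [hmG] at h1
    simp only [hmH, D.index_eq] at h2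
    exact_mod_cast h1.trans h2.symm
  have hne : ∀ χ ∈ Finset.univ.filter fun χ => mG χ ≠ 0,
      Cfsg.classInner (fun k : K => (χ : G → ℂ) k) θ ≠ 0 := fun χ hχ => by
    rw [hmG]; exact Nat.cast_ne_zero.2 (Finset.mem_filter.1 hχ).2
  choose Ψ hΨ hΨu hΨM hΨm using fun χ (hχ : χ ∈ Finset.univ.filter fun χ => mG χ ≠ 0) =>
    D.exists_image χ.2 (hne χ hχ)
  by_contra hno
  let ψ₀ : Cfsg.IrrCharacter H := ⟨ψ, hψ⟩
  set S := (Finset.univ.filter fun χ => mG χ ≠ 0).attach.image
    fun χ => (⟨Ψ χ.1 χ.2, hΨ χ.1 χ.2⟩ : Cfsg.IrrCharacter H) with hS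
  have hψS : ψ₀ ∉ S := by
    rw [hS, Finset.mem_image]
    rintro ⟨χ, -, hχ⟩
    refine hno ⟨_, χ.1.2, hne χ.1 χ.2, (hΨu χ.1 χ.2 ψ hψ).2 ?_⟩
    exact (congrArg Subtype.val hχ).symm
  have hsumS : ∑ η ∈ S, mH η * mH η = ∑ χ, mG χ * mG χ := by
    rw [hS, Finset.sum_image]
    · rw [← Finset.sum_subset (Finset.filter_subset (fun χ => mG χ ≠ 0) Finset.univ)
        (fun χ _ hχ => by simp_all),
        ← Finset.sum_attach (Finset.univ.filter fun χ => mG χ ≠ 0) fun χ => mG χ * mG χ]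
      refine Finset.sum_congr rfl fun χ _ => ?_
      have h := hΨm χ.1 χ.2
      rw [show Cfsg.classInner (fun l : K.subgroupOf H => Ψ χ.1 χ.2 l) D.base = _ from
        hmH ⟨Ψ χ.1 χ.2, hΨ χ.1 χ.2⟩, hmG, Nat.cast_inj] at h
      rw [h]
    · intro x _ y _ hxy
      have hxy' := congrArg Subtype.val hxy
      refine Subtype.ext (Subtype.ext (hinj _ _ x.1.2 y.1.2 (hne x.1 x.2) (hne y.1 y.2) _
        (hΨ x.1 x.2) ((hΨu x.1 x.2 _ (hΨ x.1 x.2)).2 rfl) ((hΨu y.1 y.2 _ (hΨ x.1 x.2)).2 hxy')))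
  have hlt : ∑ η ∈ S, mH η * mH η < ∑ η, mH η * mH η := by
    refine Finset.sum_lt_sum_of_subset (Finset.subset_univ S) (Finset.mem_univ ψ₀) hψS ?_
      (fun _ _ _ => Nat.zero_le _)
    refine mul_self_pos.2 fun h0 => hψo ?_
    rw [show Cfsg.classInner (fun l : K.subgroupOf H => ψ l) D.base = _ from hmH ψ₀, h0,
      Nat.cast_zero]
  omega

end Inv

end Cfsg.Agent.BlocksChars.IsaacsOdd
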