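import Mathlib

/-!
# Coprime affine actions on finite abelian groups
-/

namespace Cfsg.Agent.BlocksChars.IsaacsOdd

variable {A U : Type*} [CommGroup A] [Group U] [Finite A] [Finite U]
  (σ : U → A →* A) (hcop : (Nat.card U).Coprime (Nat.card A))

include hcop in
theorem exists_pow_inverse : ∃ m : ℕ, ∀ a : A, (a ^ Nat.card U) ^ m = a := by
  rcases Nat.lt_or_ge (Nat.card A) 2 with hA | hA
  · refine ⟨0, fun a => ?_⟩
    have h1 : Nat.card A = 1 := by have := Nat.card_pos (α := A); omega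
    have h2 := pow_card_eq_one' (G := A) (x := a)
    rw [h1, pow_one] at h2
    rw [h2, one_pow, one_pow]
  · obtain ⟨m, -, hm⟩ := Nat.exists_mul_mod_eq_one_of_coprime hcop hA
    refine ⟨m, fun a => ?_⟩
    rw [← pow_mul, ← Nat.div_add_mod (Nat.card U * m) (Nat.card A), hm, pow_add, pow_mul,
      pow_card_eq_one', one_pow, pow_one, one_mul]

include hcop in
/-- A cocycle modulo a subgroup is a coboundary modulo it. -/
theorem exists_affine (W : Subgroup A) (t : U → A)
    (hco : ∀ u v, σ u (t v) * t u * (t (u * v))⁻¹ ∈ W) : ∃ a, ∀ u, σ u a * t u * a⁻¹ ∈ W := by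
  haveI := Fintype.ofFinite U
  obtain ⟨m, hm⟩ := exists_pow_inverse hcop
  refine ⟨(∏ v, t v) ^ m, fun u => ?_⟩
  have h : σ u (∏ v, t v) * t u ^ Nat.card U * (∏ v, t v)⁻¹ ∈ W := by
    rw [map_prod, Nat.card_eq_fintype_card, ← Finset.card_univ, ← Finset.prod_const,
      ← Finset.prod_mul_distrib,
      show (∏ v, t v) = ∏ v, t (u * v) from
        (Fintype.prod_equiv (Equiv.mulLeft u) _ _ fun v => rfl).symm,
      ← Finset.prod_inv_distrib, ← Finset.prod_mul_distrib]
    exact Subgroup.prod_mem W fun v _ => hco u v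
  have h2 := W.pow_mem h m
  rw [mul_pow, mul_pow, hm, ← map_pow, inv_pow] at h2
  exact h2

include hcop in
/-- Without fixed points, only the subgroup is fixed modulo a subgroup. -/
theorem mem_of_fixed_mod (W : Subgroup A) (hmul : ∀ u v a, σ (u * v) a = σ u (σ v a))
    (hfix : ∀ a, (∀ u, σ u a = a) → a = 1) {a : A} (ha : ∀ u, σ u a * a⁻¹ ∈ W) : a ∈ W := by
  haveI := Fintype.ofFinite U
  obtain ⟨m, hm⟩ := exists_pow_inverse hcop
  have hb : (∏ u, σ u a) = 1 := hfix _ fun v => by
    rw [map_prod]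
    exact Fintype.prod_equiv (Equiv.mulLeft v) _ _ fun u => (hmul v u a).symm
  have h : ∏ u, σ u a * a⁻¹ ∈ W := Subgroup.prod_mem W fun u _ => ha u
  rw [Finset.prod_mul_distrib, hb, one_mul, Finset.prod_const, Finset.card_univ,
    ← Nat.card_eq_fintype_card, inv_pow, inv_mem_iff] at h
  have h2 := W.pow_mem h m
  rwa [hm] at h2

end Cfsg.Agent.BlocksChars.IsaacsOdd
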