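import Mathlib
import Cfsg.Agent.BlocksChars.IsaacsOdd.Affine
import Cfsg.Agent.Lib.CharTheory.Clifford
import Cfsg.Agent.Lib.CharTheory.Basics

/-!
# The odd coprime setting, and invariant constituents
-/

set_option linter.style.haveILetI false
set_option linter.unusedSectionVars false

namespace Cfsg.Agent.BlocksChars.IsaacsOdd

open Cfsg.Agent.Characters Cfsg.Agent.CharTheory

universe u v

/-- `U` acts coprimely on `G = K C` with `C` the fixed points and `H = (H ∩ K) C`. -/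
structure Setup (G : Type u) [Group G] (U : Type v) [Group U] where
  ac : U →* MulAut G
  K : Subgroup G
  H : Subgroup G
  normalK : K.Normal
  normalN : (H ⊓ K).Normal
  stK : ∀ u k, k ∈ K → ac u k ∈ K
  stH : ∀ u h, h ∈ H → ac u h ∈ H
  comm : ∀ a ∈ K, ∀ b ∈ K, a * b * a⁻¹ * b⁻¹ ∈ H
  fixH : ∀ c, (∀ u, ac u c = c) → c ∈ H
  genG : ∀ g, ∃ k ∈ K, ∃ c, (∀ u, ac u c = c) ∧ g = k * c
  genH : ∀ h ∈ H, ∃ l ∈ H ⊓ K, ∃ c, (∀ u, ac u c = c) ∧ h = l * c
  fpf : ∀ k ∈ K, (∀ u, k⁻¹ * ac u k ∈ H) → k ∈ H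
  cop : (Nat.card U).Coprime (Nat.card G)
  odd : Odd (Nat.card G)

variable {G : Type u} [Group G] {U : Type v} [Group U]

/-- Twist of a function on a subgroup by an automorphism of the group preserving it. -/
def tw (M : Subgroup G) (α : MulAut G) (hα : ∀ x ∈ M, α x ∈ M) (f : M → ℂ) : M → ℂ :=
  fun x => f ⟨α x, hα x x.2⟩

variable [Finite G]

/-- An automorphism of `G` preserving a subgroup, restricted to it. -/
noncomputable def restrictAut (M : Subgroup G) (α : MulAut G) (hα : ∀ x ∈ M, α x ∈ M) :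
    MulAut M :=
  MulEquiv.ofBijective (((α : G →* G).comp M.subtype).codRestrict M fun x => hα x x.2)
    (Finite.injective_iff_bijective.1 fun x y h =>
      Subtype.ext (α.injective (congrArg Subtype.val h)))

theorem restrictAut_coe (M : Subgroup G) (α : MulAut G) (hα : ∀ x ∈ M, α x ∈ M) (x : M) :
    ((restrictAut M α hα x : M) : G) = α x := rfl

theorem tw_eq_comp (M : Subgroup G) (α : MulAut G) (hα : ∀ x ∈ M, α x ∈ M) (f : M → ℂ) :
    tw M α hα f = f ∘ restrictAut M α hα := rfl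

theorem tw_irr (M : Subgroup G) (α : MulAut G) (hα : ∀ x ∈ M, α x ∈ M) {f : M → ℂ}
    (hf : Cfsg.IsIrrCharacter M f) : Cfsg.IsIrrCharacter M (tw M α hα f) :=
  Basics.isIrrCharacter_comp_equiv (restrictAut M α hα) hf

theorem classInner_tw (M : Subgroup G) [Fintype M] (α : MulAut G) (hα : ∀ x ∈ M, α x ∈ M)
    (f f' : M → ℂ) :
    Cfsg.classInner (tw M α hα f) (tw M α hα f') = Cfsg.classInner f f' :=
  Basics.classInner_comp_equiv (restrictAut M α hα) f f'

variable (ac : U →* MulAut G)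

/-- The constituents on `M` of an invariant irreducible character are invariant when a fixed
subgroup covers the orbit of one of them and the orders are coprime. -/
theorem constituent_invariant [Finite U] (hcop : (Nat.card U).Coprime (Nat.card G))
    (M : Subgroup G) [hMn : M.Normal] [Fintype M] (hM : ∀ u x, x ∈ M → ac u x ∈ M)
    (hgen : ∀ g, ∃ x ∈ M, ∃ c, (∀ u, ac u c = c) ∧ g = x * c) {χ : G → ℂ}
    (hχ : Cfsg.IsIrrCharacter G χ) (hinv : ∀ u g, χ (ac u g) = χ g) {θ : M → ℂ}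
    (hθ : Cfsg.IsIrrCharacter M θ) (hover : Cfsg.classInner (fun x : M => χ x) θ ≠ 0) (u : U) :
    tw M (ac u) (hM u) θ = θ := by
  haveI := Fintype.ofFinite G
  have hres : tw M (ac u) (hM u) (fun x : M => χ x) = fun x : M => χ x := funext fun x => hinv u x
  have hover' : Cfsg.classInner (fun x : M => χ x) (tw M (ac u) (hM u) θ) ≠ 0 := by
    rw [← hres, classInner_tw]; exact hover
  obtain ⟨g, hg⟩ := Clifford.exists_conjBy_eq M hχ hθ (tw_irr M _ _ hθ) hover hover'
  obtain ⟨x, hx, c, hc, rfl⟩ := hgen g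
  have hxfix : Clifford.conjBy M x θ = θ := funext fun m => by
    exact char_isClassFunction (isCharacter_of_isIrr hθ) m ⟨x, hx⟩
  rw [← Clifford.conjBy_conjBy, hxfix] at hg
  have hiter : ∀ j : ℕ, tw M (ac (u ^ j)) (hM _) θ = Clifford.conjBy M (c ^ j) θ := by
    intro j
    induction j with
    | zero =>
      rw [pow_zero c, Clifford.conjBy_one]
      funext m
      exact congrArg θ (Subtype.ext (show (ac (u ^ 0)) (m : G) = m by rw [pow_zero, map_one]; rfl))
    | succ j ih =>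
      funext m
      have h1 := congrFun hg ⟨ac (u ^ j) m, hM _ _ m.2⟩
      have h2 := congrFun ih ⟨c * m * c⁻¹, hMn.conj_mem _ m.2 c⟩
      rw [Clifford.conjBy_apply] at h1 h2
      simp only [tw] at h1 h2 ⊢
      rw [Clifford.conjBy_apply]
      refine Eq.trans ?_ (Eq.trans h1.symm (Eq.trans ?_ (h2.trans ?_)))
      · exact congrArg θ (Subtype.ext (by simp [pow_succ', map_mul]))
      · refine congrArg θ (Subtype.ext ?_)
        show c * ac (u ^ j) m * c⁻¹ = ac (u ^ j) (c * m * c⁻¹)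
        rw [map_mul, map_mul, map_inv, hc]
      · refine congrArg θ (Subtype.ext ?_)
        show c ^ j * (c * m * c⁻¹) * (c ^ j)⁻¹ = c ^ (j + 1) * m * (c ^ (j + 1))⁻¹
        rw [pow_succ]; group
  let W : Subgroup G :=
    { carrier := {g | Clifford.conjBy M g θ = θ}
      one_mem' := Clifford.conjBy_one M θ
      mul_mem' := fun {a b} (ha : Clifford.conjBy M a θ = θ) (hb : Clifford.conjBy M b θ = θ) => by
        show Clifford.conjBy M (a * b) θ = θ
        rw [← Clifford.conjBy_conjBy, ha, hb]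
      inv_mem' := fun {a} (ha : Clifford.conjBy M a θ = θ) => by
        show Clifford.conjBy M a⁻¹ θ = θ
        conv_lhs => rw [← ha]
        rw [Clifford.conjBy_conjBy, mul_inv_cancel, Clifford.conjBy_one] }
  have hn : c ^ Nat.card U ∈ W := by
    show Clifford.conjBy M (c ^ Nat.card U) θ = θ
    rw [← hiter, pow_card_eq_one']
    funext m
    exact congrArg θ (Subtype.ext (show (ac 1) (m : G) = m by rw [map_one]; rfl))
  have hcW : c ∈ W := by
    obtain ⟨j, hj⟩ := exists_pow_inverse (A := Multiplicative (ZMod (Nat.card G))) (U := U) (by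
      rwa [Nat.card_congr Multiplicative.toAdd, Nat.card_zmod])
    have h1 := congrArg Multiplicative.toAdd (hj (Multiplicative.ofAdd 1))
    simp only [toAdd_pow, toAdd_ofAdd, nsmul_one] at h1
    have h2 : c ^ (j * Nat.card U) = c := by
      have h3 : j * Nat.card U ≡ 1 [MOD orderOf c] :=
        Nat.ModEq.of_dvd (orderOf_dvd_natCard c)
          ((ZMod.natCast_eq_natCast_iff _ _ _).1 (by rw [Nat.cast_one, Nat.cast_mul, ← nsmul_eq_mul]; exact h1))
      conv_rhs => rw [← pow_one c]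
      exact pow_eq_pow_iff_modEq.2 h3
    rw [← h2, mul_comm, pow_mul]
    exact W.pow_mem hn j
  exact hg.symm.trans hcW

namespace Setup

variable (S : Setup G U)

/-- `H ∩ K`. -/
abbrev N : Subgroup G := S.H ⊓ S.K

theorem stN (u : U) : ∀ x ∈ S.N, S.ac u x ∈ S.N :=
  fun x hx => ⟨S.stH u x hx.1, S.stK u x hx.2⟩

/-- Twist of a function on `H ∩ K`. -/
def twN (u : U) (f : S.N → ℂ) : S.N → ℂ := tw S.N (S.ac u) (S.stN u) f

theorem twN_twN (u v : U) (f : S.N → ℂ) : S.twN u (S.twN v f) = S.twN (v * u) f := by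
  funext x
  exact congrArg f (Subtype.ext (by simp [map_mul]))

/-- Conjugation on functions on `H ∩ K`. -/
noncomputable def cbN (g : G) (f : S.N → ℂ) : S.N → ℂ :=
  haveI := S.normalN
  Clifford.conjBy S.N g f

theorem cbN_cbN (g h : G) (f : S.N → ℂ) : S.cbN g (S.cbN h f) = S.cbN (h * g) f :=
  haveI := S.normalN
  Clifford.conjBy_conjBy S.N g h f

theorem cbN_one (f : S.N → ℂ) : S.cbN 1 f = f :=
  haveI := S.normalN
  Clifford.conjBy_one S.N f

theorem twN_cbN (u : U) (g : G) (f : S.N → ℂ) :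
    S.twN u (S.cbN g f) = S.cbN ((S.ac u).symm g) (S.twN u f) := by
  funext x
  exact congrArg f (Subtype.ext (by simp [map_mul]))

theorem cbN_of_mem {g : G} (hg : g ∈ S.N) {f : S.N → ℂ} (hf : Cfsg.IsClassFunction S.N f) :
    S.cbN g f = f :=
  funext fun x => hf x ⟨g, hg⟩

section Quot

/-- `K / (H ∩ K)`. -/
abbrev NK : Subgroup S.K := S.H.subgroupOf S.K

theorem normal_NK : S.NK.Normal :=
  ⟨fun n hn g => by
    rw [Subgroup.mem_subgroupOf] at hn ⊢
    have h := S.H.mul_mem (S.comm g g.2 n n.2) hn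
    rwa [inv_mul_cancel_right] at h⟩

instance : (S.H.subgroupOf S.K).Normal := S.normal_NK

noncomputable instance : CommGroup (S.K ⧸ S.NK) :=
  { (inferInstance : Group (S.K ⧸ S.NK)) with
    mul_comm := fun x y => by
      obtain ⟨a, rfl⟩ := QuotientGroup.mk_surjective x
      obtain ⟨b, rfl⟩ := QuotientGroup.mk_surjective y
      rw [← QuotientGroup.mk_mul, ← QuotientGroup.mk_mul, eq_comm, QuotientGroup.eq,
        Subgroup.mem_subgroupOf]
      simpa [mul_assoc] using S.comm (a : G)⁻¹ (inv_mem a.2) (b : G)⁻¹ (inv_mem b.2) }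

/-- The projection to `K / (H ∩ K)`. -/
noncomputable def proj : S.K →* S.K ⧸ S.NK := QuotientGroup.mk' _

theorem proj_surjective : Function.Surjective S.proj := QuotientGroup.mk'_surjective _

theorem proj_ker (k : S.K) : k ∈ S.proj.ker ↔ (k : G) ∈ S.H := by
  rw [proj, QuotientGroup.ker_mk', Subgroup.mem_subgroupOf]

/-- The action on `K / (H ∩ K)`. -/
noncomputable def sigma (u : U) : (S.K ⧸ S.NK) →* S.K ⧸ S.NK :=
  QuotientGroup.map S.NK S.NK (restrictAut S.K (S.ac u) fun x hx => S.stK u x hx).toMonoidHom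
    fun x hx => by
      rw [Subgroup.mem_comap, Subgroup.mem_subgroupOf]
      exact S.stH u x hx

theorem sigma_mk (u : U) (k : S.K) :
    S.sigma u (S.proj k) = S.proj ⟨S.ac u k, S.stK u k k.2⟩ := rfl

theorem sigma_mul (u v : U) (a : S.K ⧸ S.NK) : S.sigma (u * v) a = S.sigma u (S.sigma v a) := by
  obtain ⟨k, rfl⟩ := S.proj_surjective a
  rw [sigma_mk, sigma_mk, sigma_mk]
  exact congrArg S.proj (Subtype.ext (by simp [map_mul]))

theorem sigma_fpf (a : S.K ⧸ S.NK) (ha : ∀ u, S.sigma u a = a) : a = 1 := by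
  obtain ⟨k, rfl⟩ := S.proj_surjective a
  have hk : (k : G) ∈ S.H := S.fpf k k.2 fun u => by
    have h := ha u
    rw [sigma_mk] at h
    have h2 : k⁻¹ * (⟨S.ac u k, S.stK u k k.2⟩ : S.K) ∈ S.NK := QuotientGroup.eq.1 h.symm
    exact h2
  exact (S.proj_ker k).2 hk

theorem coprime_quot : (Nat.card U).Coprime (Nat.card (S.K ⧸ S.NK)) :=
  S.cop.coprime_dvd_right
    ((Subgroup.card_quotient_dvd_card S.NK).trans (Subgroup.card_subgroup_dvd_card S.K))

/-- The stabiliser of `φ` in `K / (H ∩ K)`. -/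
noncomputable def stabQ {φ : S.N → ℂ} (hφ : Cfsg.IsClassFunction S.N φ) :
    Subgroup (S.K ⧸ S.NK) where
  carrier := {a | ∀ k : S.K, S.proj k = a → S.cbN k φ = φ}
  one_mem' := fun k hk => S.cbN_of_mem ⟨(S.proj_ker k).1 hk, k.2⟩ hφ
  mul_mem' := fun {a b} ha hb k hk => by
    obtain ⟨x, rfl⟩ := S.proj_surjective a
    have hb' := hb (x⁻¹ * k) (by rw [map_mul, map_inv, hk, inv_mul_cancel_left])
    have h : S.cbN ((x⁻¹ * k : S.K) : G) (S.cbN (x : G) φ) = φ := by rw [ha x rfl, hb']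
    rwa [S.cbN_cbN, ← Subgroup.coe_mul, mul_inv_cancel_left] at h
  inv_mem' := fun {a} ha k hk => by
    have h := ha k⁻¹ (by rw [map_inv, hk, inv_inv])
    conv_lhs => rw [← h]
    rw [S.cbN_cbN, Subgroup.coe_inv, inv_mul_cancel, S.cbN_one]

theorem proj_mem_stabQ {φ : S.N → ℂ} (hφ : Cfsg.IsClassFunction S.N φ) (k : S.K) :
    S.proj k ∈ S.stabQ hφ ↔ S.cbN k φ = φ := by
  refine ⟨fun h => h k rfl, fun h j hj => ?_⟩
  have h1 : ((j * k⁻¹ : S.K) : G) ∈ S.N := ⟨(S.proj_ker _).1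
    (by rw [MonoidHom.mem_ker, map_mul, map_inv, hj, mul_inv_cancel]), (j * k⁻¹).2⟩
  have h2 : S.cbN (k : G) (S.cbN ((j * k⁻¹ : S.K) : G) φ) = φ := by rw [S.cbN_of_mem h1 hφ, h]
  rwa [S.cbN_cbN, ← Subgroup.coe_mul, inv_mul_cancel_right] at h2

/-- An invariant orbit under `K` of a character of `H ∩ K` has an invariant member. -/
theorem exists_fixed_conj [Finite U] {φ : S.N → ℂ} (hφ : Cfsg.IsClassFunction S.N φ)
    (horb : ∀ u, ∃ k : S.K, S.twN u φ = S.cbN k φ) :
    ∃ k : S.K, ∀ u, S.twN u (S.cbN k φ) = S.cbN k φ := by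
  choose t ht using fun u => horb u⁻¹
  have hco : ∀ u v, S.sigma u (S.proj (t v)) * S.proj (t u) * (S.proj (t (u * v)))⁻¹ ∈
      S.stabQ hφ := by
    intro u v
    rw [sigma_mk, ← map_mul, ← map_inv, ← map_mul, proj_mem_stabQ]
    have h1 : S.cbN ((⟨S.ac u (t v), S.stK u _ (t v).2⟩ : S.K) : G) (S.cbN (t u) φ) =
        S.cbN (t (u * v)) φ := by
      rw [← ht u, ← ht (u * v), mul_inv_rev, ← S.twN_twN, ht v, S.twN_cbN, map_inv]
      rfl
    rw [S.cbN_cbN] at h1
    have h2 : S.proj (⟨S.ac u (t v), S.stK u _ (t v).2⟩ * t u * (t (u * v))⁻¹) =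
        S.proj (t u * ⟨S.ac u (t v), S.stK u _ (t v).2⟩ * (t (u * v))⁻¹) := by
      simp only [map_mul]
      rw [mul_comm (S.proj _) (S.proj (t u))]
    refine (S.proj_mem_stabQ hφ _).1 ?_
    rw [h2, proj_mem_stabQ, Subgroup.coe_mul, Subgroup.coe_mul, ← S.cbN_cbN, h1, S.cbN_cbN,
      Subgroup.coe_inv, mul_inv_cancel, S.cbN_one]
  obtain ⟨a, ha⟩ := exists_affine S.sigma S.coprime_quot (S.stabQ hφ) _ hco
  obtain ⟨k, rfl⟩ := S.proj_surjective a
  refine ⟨k, fun u => ?_⟩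
  obtain ⟨v, rfl⟩ : ∃ v, v⁻¹ = u := ⟨u⁻¹, inv_inv u⟩
  have h := ha v
  rw [sigma_mk, ← map_mul, ← map_inv, ← map_mul] at h
  have h2 : S.cbN k (S.cbN ((⟨S.ac v k, S.stK v _ k.2⟩ * t v * k⁻¹ : S.K) : G) φ) =
      S.cbN k φ := by
    rw [(S.proj_mem_stabQ hφ _).1 h]
  rw [S.cbN_cbN, ← Subgroup.coe_mul, inv_mul_cancel_right, Subgroup.coe_mul] at h2
  rw [S.twN_cbN, ht v, map_inv]
  have h3 : S.proj (⟨S.ac v k, S.stK v _ k.2⟩ * t v * k⁻¹) =
      S.proj (t v * ⟨S.ac v k, S.stK v _ k.2⟩ * k⁻¹) := by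
    simp only [map_mul]
    rw [mul_comm (S.proj _) (S.proj (t v))]
  rw [h3] at h
  have h4 : S.cbN k (S.cbN ((t v * ⟨S.ac v k, S.stK v _ k.2⟩ * k⁻¹ : S.K) : G) φ) =
      S.cbN k φ := by
    rw [(S.proj_mem_stabQ hφ _).1 h]
  rw [S.cbN_cbN, ← Subgroup.coe_mul, inv_mul_cancel_right, Subgroup.coe_mul] at h4
  show S.cbN (S.ac v k) (S.cbN (t v : G) φ) = _
  rw [S.cbN_cbN]
  exact h4

/-- Two invariant members of one `K`-orbit are equal. -/
theorem fixed_conj_unique [Finite U] {φ : S.N → ℂ} (hφ : Cfsg.IsClassFunction S.N φ)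
    (hinv : ∀ u, S.twN u φ = φ) {k : S.K} (hk : ∀ u, S.twN u (S.cbN k φ) = S.cbN k φ) :
    S.cbN k φ = φ := by
  refine (S.proj_mem_stabQ hφ k).1 (mem_of_fixed_mod S.sigma S.coprime_quot _ S.sigma_mul
    S.sigma_fpf fun v => ?_)
  rw [sigma_mk, ← map_inv, ← map_mul, proj_mem_stabQ, Subgroup.coe_mul, Subgroup.coe_inv,
    ← S.cbN_cbN]
  have h := hk v⁻¹
  rw [S.twN_cbN, hinv, map_inv] at h
  have h' : S.cbN (S.ac v k) φ = S.cbN k φ := h
  show S.cbN (k : G)⁻¹ (S.cbN (S.ac v k) φ) = φ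
  rw [h', S.cbN_cbN, mul_inv_cancel, S.cbN_one]

end Quot

end Setup

end Cfsg.Agent.BlocksChars.IsaacsOdd
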