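import Mathlib
import Cfsg.Agent.BlocksChars.IsaacsOdd.Corr
import Cfsg.Agent.BlocksChars.IsaacsOdd.Setup

/-!
# The correspondence over an invariant character of `H ∩ K`
-/

set_option linter.style.haveILetI false
set_option linter.unusedSectionVars false

namespace Cfsg.Agent.BlocksChars.IsaacsOdd

open Matrix Cfsg.Agent.Characters Cfsg.Agent.CharTheory
open scoped ComplexConjugate

universe u v

variable {G : Type u} [Group G]

/-- Some constituent of a character carries a given constituent of the restriction. -/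
theorem exists_constituent_over [Fintype G] (M : Subgroup G) [Fintype M] {Φ : G → ℂ} {φ : M → ℂ}
    (hΦ : Cfsg.IsCharacter G Φ) (hover : Cfsg.classInner (fun x : M => Φ x) φ ≠ 0) :
    ∃ ψ : G → ℂ, Cfsg.IsIrrCharacter G ψ ∧ Cfsg.classInner Φ ψ ≠ 0 ∧
      Cfsg.classInner (fun x : M => ψ x) φ ≠ 0 := by
  classical
  haveI := Fintype.ofFinite (Cfsg.IrrCharacter G)
  by_contra! h
  apply hover
  have hexp : (fun x : M => Φ x) = ∑ ψ : Cfsg.IrrCharacter G,
      Cfsg.classInner Φ (ψ : G → ℂ) • (fun x : M => (ψ : G → ℂ) x) := by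
    funext x
    simpa [Finset.sum_apply] using congrFun (classFun_eq_sum (char_isClassFunction hΦ)) (x : G)
  rw [hexp, classInner_sum_left, Finset.sum_eq_zero fun ψ _ => ?_]
  rw [classInner_smul_left]
  by_cases h0 : Cfsg.classInner Φ (ψ : G → ℂ) = 0
  · rw [h0, zero_mul]
  · rw [h _ ψ.2 h0, mul_zero]

/-- A character of a subgroup lies below some irreducible character. -/
theorem exists_irr_over [Fintype G] (M : Subgroup G) [Fintype M] {φ : M → ℂ}
    (hφ : Cfsg.IsIrrCharacter M φ) :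
    ∃ χ : G → ℂ, Cfsg.IsIrrCharacter G χ ∧ Cfsg.classInner (fun x : M => χ x) φ ≠ 0 := by
  classical
  haveI := Fintype.ofFinite (Cfsg.IrrCharacter G)
  have hc := isCharacter_indFun M (isCharacter_of_isIrr hφ)
  by_contra! h
  have h0 : Cfsg.indFun M φ = 0 := by
    rw [classFun_eq_sum (char_isClassFunction hc)]
    refine Finset.sum_eq_zero fun χ _ => ?_
    rw [frobenius_reciprocity M φ (irr_isClassFunction χ), classInner_conj_symm, h _ χ.2, map_zero,
      zero_smul]
  have h1 := congrFun h0 1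
  rw [indFun_one, Pi.zero_apply, mul_eq_zero] at h1
  exact h1.elim (fun h => Subgroup.index_ne_zero_of_finite (by exact_mod_cast h))
    (fun h => irr_one_ne_zero hφ h)

variable {U : Type v} [Group U] (S : Setup G U)

/-- Lying over a character of `H ∩ K`. -/
def Setup.OverG [Fintype S.N] (χ : G → ℂ) (φ : S.N → ℂ) : Prop :=
  Cfsg.classInner (fun x : S.N => χ x) φ ≠ 0

/-- Lying over a character of `H ∩ K`, for `H`. -/
def Setup.OverH [Fintype S.N] (ψ : S.H → ℂ) (φ : S.N → ℂ) : Prop :=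
  Cfsg.classInner (fun x : S.N => ψ ⟨(x : G), x.2.1⟩) φ ≠ 0

variable [Fintype G] [Fintype S.K] [Fintype S.H] [Fintype S.N] [Finite U]

/-- The invariant case of the correspondence. -/
theorem Setup.inv_case {φ : S.N → ℂ} (hφ : Cfsg.IsIrrCharacter S.N φ)
    (hG : ∀ g, S.cbN g φ = φ) (hU : ∀ u, S.twN u φ = φ) :
    (∀ χ : G → ℂ, Cfsg.IsIrrCharacter G χ → (∀ u g, χ (S.ac u g) = χ g) → S.OverG χ φ →
      ∃ ψ : S.H → ℂ, Cfsg.IsIrrCharacter S.H ψ ∧ S.OverH ψ φ ∧
        OddCon (fun h : S.H => χ h) ψ ∧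
        ∀ η, Cfsg.IsIrrCharacter S.H η → OddCon (fun h : S.H => χ h) η → η = ψ) ∧
    (∀ χ χ' : G → ℂ, Cfsg.IsIrrCharacter G χ → Cfsg.IsIrrCharacter G χ' →
      (∀ u g, χ (S.ac u g) = χ g) → (∀ u g, χ' (S.ac u g) = χ' g) →
      S.OverG χ φ → S.OverG χ' φ → ∀ ψ, Cfsg.IsIrrCharacter S.H ψ →
      OddCon (fun h : S.H => χ h) ψ → OddCon (fun h : S.H => χ' h) ψ → χ = χ') ∧
    ∀ ψ, Cfsg.IsIrrCharacter S.H ψ → (∀ u (h : S.H), ψ ⟨S.ac u h, S.stH u h h.2⟩ = ψ h) →
      S.OverH ψ φ →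
      ∃ χ : G → ℂ, Cfsg.IsIrrCharacter G χ ∧ (∀ u g, χ (S.ac u g) = χ g) ∧ S.OverG χ φ ∧
        OddCon (fun h : S.H => χ h) ψ := by
  classical
  haveI : S.K.Normal := S.normalK
  haveI := Fintype.ofFinite U
  haveI := Fintype.ofFinite S.NK
  haveI := Fintype.ofFinite (S.K ⧸ S.NK)
  haveI := Fintype.ofFinite ((S.K ⧸ S.NK) →* ℂˣ)
  haveI := Fintype.ofFinite S.proj.ker
  haveI := Fintype.ofFinite (S.K.subgroupOf S.H)
  -- the copies of `H ∩ K`
  let ε : S.NK ≃* S.N :=
    { toFun := fun x => ⟨((x : S.K) : G), x.2, (x : S.K).2⟩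
      invFun := fun y => ⟨⟨(y : G), y.2.2⟩, y.2.1⟩
      left_inv := fun _ => rfl
      right_inv := fun _ => rfl
      map_mul' := fun _ _ => rfl }
  set φK : S.NK → ℂ := φ ∘ ε with hφKdef
  have hφK : Cfsg.IsIrrCharacter S.NK φK := Basics.isIrrCharacter_comp_equiv ε hφ
  have hφKinv : ∀ k : S.K, Clifford.conjBy S.NK k φK = φK := fun k =>
    funext fun x => congrFun (hG k) (ε x)
  have hrestr : ∀ f : S.K → ℂ, Cfsg.classInner (fun x : S.NK => f x) φK =
      Cfsg.classInner (fun y : S.N => f ⟨(y : G), y.2.2⟩) φ := fun f => by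
    rw [hφKdef, ← Basics.classInner_comp_equiv ε (fun y : S.N => f ⟨(y : G), y.2.2⟩) φ]
    rfl
  let ov : (S.K → ℂ) → Prop := fun f => Cfsg.classInner (fun x : S.NK => f x) φK ≠ 0
  -- twists
  let tK : U → (S.K → ℂ) → S.K → ℂ := fun u f => tw S.K (S.ac u) (fun x hx => S.stK u x hx) f
  have htt : ∀ u v f, tK u (tK v f) = tK (v * u) f := fun u v f =>
    funext fun x => congrArg f (Subtype.ext (by simp [map_mul]))
  have htK1 : ∀ f, tK 1 f = f := fun f =>
    funext fun x => congrArg f (Subtype.ext (show (S.ac 1) (x : G) = x by rw [map_one]; rfl))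
  have ov_tK : ∀ u f, ov f → ov (tK u f) := fun u f hf => by
    show Cfsg.classInner (fun x : S.NK => tK u f x) φK ≠ 0
    rw [hrestr]
    conv in φ => rw [← hU u]
    show Cfsg.classInner (S.twN u fun y : S.N => f ⟨(y : G), y.2.2⟩) (S.twN u φ) ≠ 0
    rw [Setup.twN, Setup.twN, classInner_tw, ← hrestr]
    exact hf
  let lin : ((S.K ⧸ S.NK) →* ℂˣ) → S.K → ℂ := fun l k => (l (S.proj k) : ℂ)
  have hlin_irr : ∀ {θ : S.K → ℂ}, Cfsg.IsIrrCharacter S.K θ → ∀ l,
      Cfsg.IsIrrCharacter S.K (θ * lin l) := fun {θ} hθ l =>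
    Basics.isIrr_mul_linear hθ (isCharacter_linear (l.comp S.proj)) (by simp [lin])
  have htrans : ∀ {θ θ' : S.K → ℂ}, Cfsg.IsIrrCharacter S.K θ → Cfsg.IsIrrCharacter S.K θ' →
      ov θ → ov θ' → ∃ l, θ' = θ * lin l := by
    intro θ θ' hθ hθ' ho ho'
    by_contra! hne
    have h0 : ∑ l, Cfsg.classInner (θ * lin l) θ' = 0 :=
      Finset.sum_eq_zero fun l _ => classInner_isIrr_ne (hlin_irr hθ l) hθ' (hne l).symm
    have hs : ∀ k : S.K, ∑ l, lin l k =
        if k ∈ S.NK then (Fintype.card (S.K ⧸ S.NK) : ℂ) else 0 := fun k => by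
      have e := Cfsg.Agent.CharP.JordanBound.sum_dual (S.proj k)
      have hiff : S.proj k = 1 ↔ k ∈ S.NK := QuotientGroup.eq_one_iff k
      simp only [hiff] at e
      exact Eq.trans (Finset.sum_congr (Finset.ext fun _ => by simp) fun _ _ => rfl) e
    simp only [classInner_def, Pi.mul_apply, ← Finset.mul_sum] at h0
    rw [Finset.sum_comm,
      Finset.sum_congr rfl (g := fun k => (θ k * conj (θ' k)) * ∑ l, lin l k) fun k _ => by
        rw [Finset.mul_sum]
        exact Finset.sum_congr rfl fun l _ => by ring] at h0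
    simp only [hs, mul_ite, mul_zero] at h0
    rw [← Finset.sum_filter, ← Finset.sum_mul, Finset.sum_subtype _ (p := fun k => k ∈ S.NK)
      (fun k => by simp)] at h0
    have e1 := Clifford.restrict_eq_smul_of_invariant S.NK hθ hφK ho hφKinv
    have e2 := Clifford.restrict_eq_smul_of_invariant S.NK hθ' hφK ho' hφKinv
    have h1 : Cfsg.classInner (fun x : S.NK => θ x) (fun x : S.NK => θ' x) = 0 := by
      rw [classInner_def]
      have h2 : (∑ x : S.NK, θ x * conj (θ' x)) = 0 := by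
        simpa [natCard_ne_zero, Fintype.card_ne_zero] using h0
      rw [h2, mul_zero]
    rw [e1, e2, classInner_smul_left, classInner_smul_right,
      classInner_isIrr_self hφK, mul_one, mul_eq_zero, map_eq_zero] at h1
    exact h1.elim ho ho'
  -- the invariant character of `K`
  obtain ⟨θ₀, hθ₀, hθ₀o⟩ := exists_irr_over S.NK hφK
  choose t ht using fun u : U =>
    htrans hθ₀ (tw_irr S.K (S.ac u⁻¹) (fun x hx => S.stK _ x hx) hθ₀) hθ₀o (ov_tK u⁻¹ θ₀ hθ₀o)
  have ht' : ∀ u, tK u⁻¹ θ₀ = θ₀ * lin (t u) := ht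
  let σ : U → ((S.K ⧸ S.NK) →* ℂˣ) →* ((S.K ⧸ S.NK) →* ℂˣ) := fun u =>
    { toFun := fun l => l.comp (S.sigma u⁻¹)
      map_one' := rfl
      map_mul' := fun _ _ => rfl }
  have hσlin : ∀ u l, tK u⁻¹ (lin l) = lin (σ u l) := fun u l => rfl
  have htKmul : ∀ u f f', tK u (f * f') = tK u f * tK u f' := fun u f f' => rfl
  have hlinmul : ∀ l l', lin (l * l') = lin l * lin l' := fun l l' => funext fun k => by
    simp [lin]
  let W : Subgroup ((S.K ⧸ S.NK) →* ℂˣ) :=
    { carrier := {l | θ₀ * lin l = θ₀}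
      one_mem' := funext fun k => by simp [lin]
      mul_mem' := fun {a b} (ha : θ₀ * lin a = θ₀) (hb : θ₀ * lin b = θ₀) => by
        show θ₀ * lin (a * b) = θ₀
        rw [hlinmul, ← mul_assoc, ha, hb]
      inv_mem' := fun {a} (ha : θ₀ * lin a = θ₀) => by
        show θ₀ * lin a⁻¹ = θ₀
        conv_lhs => rw [← ha]
        rw [mul_assoc, ← hlinmul]
        funext k; simp [lin] }
  have hW : ∀ a b, θ₀ * lin a = θ₀ * lin b → a * b⁻¹ ∈ W := fun a b h => by
    show θ₀ * lin (a * b⁻¹) = θ₀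
    rw [hlinmul, ← mul_assoc, h, mul_assoc, ← hlinmul]
    funext k; simp [lin]
  have hcop' : (Nat.card U).Coprime (Nat.card ((S.K ⧸ S.NK) →* ℂˣ)) := by
    rw [CommGroup.card_monoidHom_of_hasEnoughRootsOfUnity]; exact S.coprime_quot
  have hco : ∀ u v, σ u (t v) * t u * (t (u * v))⁻¹ ∈ W := fun u v => by
    refine hW _ _ ?_
    rw [← ht', _root_.mul_inv_rev, ← htt, ht', htKmul, ht', hσlin, hlinmul, mul_assoc,
      mul_comm (lin (t u))]
  obtain ⟨a, ha⟩ := exists_affine σ hcop' W t hco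
  set θ := θ₀ * lin a with hθdef
  have hθ : Cfsg.IsIrrCharacter S.K θ := hlin_irr hθ₀ a
  have hθo : ov θ := by
    show Cfsg.classInner (fun x : S.NK => θ x) φK ≠ 0
    rw [show (fun x : S.NK => θ x) = fun x : S.NK => θ₀ x from funext fun x => by
      rw [hθdef, Pi.mul_apply]
      simp only [lin, show S.proj (x : S.K) = 1 from (QuotientGroup.eq_one_iff _).2 x.2, map_one,
        Units.val_one, mul_one]]
    exact hθ₀o
  have hθU : ∀ u, tK u θ = θ := fun u => by
    obtain ⟨w, rfl⟩ : ∃ w, w⁻¹ = u := ⟨u⁻¹, inv_inv u⟩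
    have h : θ₀ * lin (σ w a * t w * a⁻¹) = θ₀ := ha w
    conv_rhs => rw [hθdef, ← h]
    rw [hθdef, htKmul, ht', hσlin, hlinmul, hlinmul]
    funext k
    simp [lin]
    rw [mul_assoc (θ₀ k) (_ * _ * _), inv_mul_cancel_right₀ (Units.ne_zero _)]
    ring
  have huniq : ∀ θ', Cfsg.IsIrrCharacter S.K θ' → ov θ' → (∀ u, tK u θ' = θ') → θ' = θ := by
    intro θ' hθ' ho' hu'
    obtain ⟨l, hl⟩ := htrans hθ₀ hθ' hθ₀o ho'
    have hfix : ∀ l' : (S.K ⧸ S.NK) →* ℂˣ, (∀ u, σ u l' = l') → l' = 1 := by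
      intro l' hl'
      refine MonoidHom.ext fun x => ?_
      have hinv : ∀ u, l' (S.sigma u x) = l' x := fun u => by
        conv_rhs => rw [← hl' u⁻¹]
        show _ = l' (S.sigma u⁻¹⁻¹ x)
        rw [inv_inv]
      have hb : ∏ u, S.sigma u x = 1 := S.sigma_fpf _ fun v => by
        rw [map_prod]
        exact Fintype.prod_equiv (Equiv.mulLeft v) _ _ fun u => (S.sigma_mul v u x).symm
      have h1 : l' x ^ Nat.card U = 1 := by
        rw [Nat.card_eq_fintype_card, ← Finset.card_univ, ← Finset.prod_const,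
          ← Finset.prod_congr rfl (fun u _ => hinv u), ← map_prod, hb, map_one]
      have h2 : l' x ^ Nat.card (S.K ⧸ S.NK) = 1 := by
        rw [← map_pow, pow_card_eq_one', map_one]
      have h3 := pow_gcd_eq_one.2 ⟨h1, h2⟩
      rw [S.coprime_quot, pow_one] at h3
      rw [h3, MonoidHom.one_apply]
    have hmem : l * a⁻¹ ∈ W := by
      refine mem_of_fixed_mod σ hcop' W (fun u v b => MonoidHom.ext fun x => ?_) hfix fun u => ?_
      · obtain ⟨k, rfl⟩ := S.proj_surjective x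
        show b (S.sigma (u * v)⁻¹ (S.proj k)) = b (S.sigma v⁻¹ (S.sigma u⁻¹ (S.proj k)))
        rw [_root_.mul_inv_rev, S.sigma_mul]
      · have e1 : θ₀ * lin (σ u l * t u) = θ₀ * lin l := by
          have h := hu' u⁻¹
          rw [hl, htKmul, ht', hσlin, mul_assoc, ← hlinmul, mul_comm (t u)] at h
          exact h
        have e2 : σ u l * t u * l⁻¹ ∈ W := hW _ _ e1
        have e3 := W.mul_mem e2 (W.inv_mem (ha u))
        refine (congrArg (· ∈ W) (MonoidHom.ext fun x => ?_)).mp e3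
        simp [σ]
        refine Units.ext ?_
        push_cast
        field_simp
    have h : θ₀ * lin (l * a⁻¹) = θ₀ := hmem
    rw [hl, hθdef]
    conv_rhs => rw [← h]
    rw [mul_assoc, ← hlinmul]
    funext k
    simp [lin]
  have hθG : ∀ g : G, Clifford.conjBy S.K g θ = θ := by
    intro g
    obtain ⟨k, hk, c, hc, rfl⟩ := S.genG g
    rw [← Clifford.conjBy_conjBy,
      show Clifford.conjBy S.K k θ = θ from
        funext fun x => char_isClassFunction (isCharacter_of_isIrr hθ) x ⟨k, hk⟩]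
    refine huniq _ (Clifford.isIrrCharacter_conjBy S.K c hθ) ?_ fun u => ?_
    · show Cfsg.classInner (fun x : S.NK => Clifford.conjBy S.K c θ x) φK ≠ 0
      rw [hrestr]
      conv in φ => rw [← hG c]
      haveI := S.normalN
      show Cfsg.classInner (Clifford.conjBy S.N c fun y : S.N => θ ⟨(y : G), y.2.2⟩)
        (Clifford.conjBy S.N c φ) ≠ 0
      rw [Clifford.classInner_conjBy, ← hrestr]
      exact hθo
    · funext x
      have h := congrFun (hθU u) ⟨c * x * c⁻¹, S.normalK.conj_mem _ x.2 c⟩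
      refine Eq.trans ?_ h
      exact congrArg θ (Subtype.ext (by simp [map_mul, hc]))
  -- the parity operator
  obtain ⟨d, ρ, -, hρ⟩ := id hθ
  let L := Matrix.toLinAlgEquiv' (R := ℂ) (n := Fin d)
  let Θ : S.K →* Matrix (Fin d) (Fin d) ℂ :=
    L.symm.toMulEquiv.toMonoidHom.comp ρ
  have htr : ∀ k, (Θ k).trace = θ k := fun k => by
    rw [← congrFun hρ k]
    show (L.symm (ρ k)).trace = LinearMap.trace ℂ _ (ρ k)
    rw [← show LinearMap.trace ℂ _ (L (L.symm (ρ k))) = _ from Matrix.trace_toLin'_eq _,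
      L.apply_symm_apply]
  let ε2 : S.proj.ker ≃* S.NK := MulEquiv.subgroupCongr (QuotientGroup.ker_mk' _)
  set φ0 : S.proj.ker → ℂ := φK ∘ ε2 with hφ0def
  have hφ0 : Cfsg.IsIrrCharacter S.proj.ker φ0 := Basics.isIrrCharacter_comp_equiv ε2 hφK
  obtain ⟨e, he⟩ := classInner_char_nat (isCharacter_restrict S.NK (isCharacter_of_isIrr hθ))
    (isCharacter_of_isIrr hφK)
  have hres : ∀ l : S.proj.ker, θ l = (e : ℂ) * φ0 l := fun l => by
    have h := congrFun (Clifford.restrict_eq_smul_of_invariant S.NK hθ hφK hθo hφKinv) (ε2 l)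
    rw [he] at h
    exact h
  have hB : Nat.card (weights Θ S.proj) = e ^ 2 := by
    have h := card_weights hθ htr S.proj_surjective
    rw [Finset.sum_congr rfl (g := fun l : S.proj.ker =>
      ((e : ℂ) * (e : ℂ)) * (φ0 l * conj (φ0 l))) fun l _ => by
        rw [char_inv (isCharacter_of_isIrr hθ), hres, map_mul, Complex.conj_natCast]; ring,
      ← Finset.mul_sum, mul_left_comm, ← Nat.card_eq_fintype_card (α := S.proj.ker),
      ← classInner_def, classInner_isIrr_self hφ0, mul_one, ← pow_two] at h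
    exact_mod_cast h
  have hAodd : Odd (Nat.card (S.K ⧸ S.NK)) :=
    S.odd.of_dvd_nat ((Subgroup.card_quotient_dvd_card S.NK).trans
      (Subgroup.card_subgroup_dvd_card S.K))
  have hBodd : Odd (Nat.card (weights Θ S.proj)) :=
    hAodd.of_dvd_nat ((Subgroup.card_subgroup_dvd_card _).trans
      (by rw [CommGroup.card_monoidHom_of_hasEnoughRootsOfUnity]))
  obtain ⟨Q⟩ := exists_sys hθ htr S.proj_surjective hBodd
    fun X hX hall => centre_scalar hφ0 (e := e) (fun l => by rw [htr, hres]) X hX hall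
  let acK : U →* MulAut S.K := MonoidHom.mk'
    (fun u => restrictAut S.K (S.ac u) fun x hx => S.stK u x hx) fun u v =>
      MulEquiv.ext fun x => Subtype.ext (by
        show S.ac (u * v) x = S.ac u (S.ac v x)
        simp [map_mul])
  have hac : ∀ u, IsAut θ S.proj (acK u) := fun u => by
    refine ⟨fun k => congrFun (hθU u) k, fun k => ?_⟩
    rw [S.proj_ker, S.proj_ker]
    refine ⟨fun h => ?_, fun h => S.stH u _ h⟩
    have h2 : S.ac u⁻¹ (S.ac u k) ∈ S.H := S.stH u⁻¹ _ h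
    simpa using h2
  have he0 : e ≠ 0 := fun h => hθo (by rw [he, h, Nat.cast_zero])
  obtain ⟨T, hT, hTfix⟩ := Q.exists_fixed_par hθ htr S.proj_surjective he0 hB acK hac
    S.coprime_quot fun k hk => S.sigma_fpf _ fun u => (S.sigma_mk u k).trans (hk u)
  have hauto : ∀ g ∈ S.H, IsAut θ S.proj (MulAut.conjNormal g) := fun g hg =>
    ⟨fun k => by
      have h : Clifford.conjBy S.K g θ k = θ k := congrFun (hθG g) k
      refine Eq.trans ?_ h
      exact congrArg θ (Subtype.ext (MulAut.conjNormal_apply g k)),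
    fun k => by
      rw [S.proj_ker, S.proj_ker, MulAut.conjNormal_apply, S.H.mul_mem_cancel_right (inv_mem hg),
        S.H.mul_mem_cancel_left hg]⟩
  have D : Inv Θ S.proj S.H θ φ0 e Q T :=
    { irr := hθ
      tr := htr
      surj := S.proj_surjective
      ker := S.proj_ker
      gen := fun g => by
        obtain ⟨k, hk, c, hc, rfl⟩ := S.genG g
        exact ⟨k, hk, c, S.fixH c hc, rfl⟩
      odd := S.odd
      inv := hθG
      irrker := hφ0
      res := hres
      par := hT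
      fix := fun h hh => by
        obtain ⟨l, hl, c, hc, rfl⟩ := S.genH h hh
        have hcH := S.fixH c hc
        rw [map_mul, cj_comp Θ hθ htr (hauto l hl.1) (hauto c hcH),
          hTfix _ (hauto c hcH) fun u => MulEquiv.ext fun x => Subtype.ext (by
            show S.ac u (c * x * c⁻¹) = c * S.ac u x * c⁻¹
            simp [hc u]),
          show (MulAut.conjNormal l : MulAut S.K) = MulAut.conj ⟨l, hl.2⟩ from
            MulEquiv.ext fun x => Subtype.ext rfl,
          cj_conj Θ hθ htr, hT.1 _ ((S.proj_ker _).2 hl.1), Matrix.mul_assoc, conj_cancel',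
          Matrix.mul_one] }
  -- translation
  obtain ⟨hmap, hinj, hsurj⟩ := D.correspondence
  let ε3 : S.K.subgroupOf S.H ≃* S.N :=
    { toFun := fun x => ⟨((x : S.H) : G), (x : S.H).2, x.2⟩
      invFun := fun y => ⟨⟨(y : G), y.2.1⟩, y.2.2⟩
      left_inv := fun _ => rfl
      right_inv := fun _ => rfl
      map_mul' := fun _ _ => rfl }
  have hoverH : ∀ ψ : S.H → ℂ, S.OverH ψ φ ↔
      Cfsg.classInner (fun l : S.K.subgroupOf S.H => ψ l) D.base ≠ 0 := fun ψ => by
    rw [show D.base = φ ∘ ε3 from rfl,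
      show (fun l : S.K.subgroupOf S.H => ψ l) =
        (fun y : S.N => ψ ⟨(y : G), y.2.1⟩) ∘ ε3 from rfl,
      Basics.classInner_comp_equiv ε3]
    rfl
  have hoverG : ∀ χ : G → ℂ, Cfsg.IsIrrCharacter G χ → (∀ u g, χ (S.ac u g) = χ g) →
      S.OverG χ φ → Cfsg.classInner (fun k : S.K => χ k) θ ≠ 0 := by
    intro χ hχ hinv ho
    have ho' : Cfsg.classInner (fun x : S.NK => χ ((x : S.K) : G)) φK ≠ 0 := by
      rw [hrestr fun k : S.K => χ k]; exact ho
    obtain ⟨θ', hθ', h1, h2⟩ := exists_constituent_over S.NK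
      (Φ := fun k : S.K => χ k) (isCharacter_restrict S.K (isCharacter_of_isIrr hχ)) ho'
    rwa [huniq θ' hθ' h2 fun u => constituent_invariant S.ac S.cop S.K
      (fun u x hx => S.stK u x hx) S.genG hχ hinv hθ' h1 u] at h1
  refine ⟨fun χ hχ hinv ho => ?_, fun χ χ' hχ hχ' hi hi' ho ho' => ?_, fun ψ hψ hψinv hψo => ?_⟩
  · obtain ⟨ψ, hψ, hb, hodd, hu⟩ := hmap χ hχ (hoverG χ hχ hinv ho)
    exact ⟨ψ, hψ, (hoverH ψ).2 hb, hodd, hu⟩
  · exact hinj χ χ' hχ hχ' (hoverG χ hχ hi ho) (hoverG χ' hχ' hi' ho')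
  obtain ⟨χ, hχ, hχθ, hodd⟩ := hsurj ψ hψ ((hoverH ψ).1 hψo)
  have hχφ : S.OverG χ φ := by
    have h := Clifford.classInner_restrict_ne_zero S.NK
      (isCharacter_restrict S.K (isCharacter_of_isIrr hχ)) hθ (isCharacter_of_isIrr hφK) hχθ hθo
    rw [hrestr fun k : S.K => χ k] at h
    exact h
  refine ⟨χ, hχ, fun u g => ?_, hχφ, hodd⟩
  have hα : (fun g => χ (S.ac u g)) = χ := by
    refine hinj _ χ (Basics.isIrrCharacter_comp_equiv (S.ac u) hχ) hχ ?_ hχθ ψ hψ ?_ hodd
    · show Cfsg.classInner (tK u fun k : S.K => χ k) θ ≠ 0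
      rw [← hθU u]
      show Cfsg.classInner (tw S.K (S.ac u) (fun x hx => S.stK u x hx) fun k : S.K => χ k)
        (tw S.K (S.ac u) (fun x hx => S.stK u x hx) θ) ≠ 0
      rw [classInner_tw]
      exact hχθ
    · obtain ⟨n, hn, hnodd⟩ := hodd
      refine ⟨n, ?_, hnodd⟩
      rw [← hn]
      conv_lhs => rw [← show tw S.H (S.ac u) (S.stH u) ψ = ψ from funext (hψinv u)]
      show Cfsg.classInner (tw S.H (S.ac u) (S.stH u) fun h : S.H => χ h)
        (tw S.H (S.ac u) (S.stH u) ψ) = _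
      rw [classInner_tw]
  exact congrFun hα g

end Cfsg.Agent.BlocksChars.IsaacsOdd
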