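import Mathlib
import Cfsg.Agent.BlocksChars.IsaacsOdd.InvCase
import Cfsg.Agent.S0854

/-!
# Invariant constituents of invariant characters, and the Clifford correspondent
-/

set_option linter.style.haveILetI false
set_option linter.unusedSectionVars false

namespace Cfsg.Agent.BlocksChars.IsaacsOdd

open Cfsg.Agent.Characters Cfsg.Agent.CharTheory

universe u v

/-- An irreducible character has a constituent on every subgroup. -/
theorem exists_constituent {G : Type u} [Group G] [Fintype G] (M : Subgroup G) [Fintype M]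
    {χ : G → ℂ} (hχ : Cfsg.IsIrrCharacter G χ) :
    ∃ φ : M → ℂ, Cfsg.IsIrrCharacter M φ ∧ Cfsg.classInner (fun x : M => χ x) φ ≠ 0 := by
  classical
  haveI := Fintype.ofFinite (Cfsg.IrrCharacter M)
  by_contra! h
  have hc := isCharacter_restrict M (isCharacter_of_isIrr hχ)
  have h0 : (fun x : M => χ x) = 0 := by
    rw [classFun_eq_sum (char_isClassFunction hc)]
    exact Finset.sum_eq_zero fun φ _ => by rw [h _ φ.2, zero_smul]
  exact irr_one_ne_zero hχ (congrFun h0 1)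

/-- Splitting off the Clifford correspondent. -/
theorem clifford_split {X : Type u} [Group X] [Fintype X] (M : Subgroup X) [hM : M.Normal]
    [Fintype M] {ϑ : M → ℂ} (hϑ : Cfsg.IsIrrCharacter M ϑ) (T : Subgroup X) [Fintype T]
    (hT : ∀ g : X, g ∈ T ↔ Clifford.conjBy M g ϑ = ϑ) (hMT : M ≤ T) {χ : X → ℂ}
    (hχ : Cfsg.IsIrrCharacter X χ) (hover : Cfsg.classInner (fun n : M => χ n) ϑ ≠ 0) :
    ∃ ξ Δ : T → ℂ, Cfsg.IsIrrCharacter T ξ ∧ Cfsg.IsCharacter T Δ ∧ Cfsg.indFun T ξ = χ ∧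
      (fun t : T => χ t) = ξ + Δ ∧
      Cfsg.classInner (fun n : M => ξ ⟨n, hMT n.2⟩) ϑ ≠ 0 ∧
      Cfsg.classInner (fun n : M => Δ ⟨n, hMT n.2⟩) ϑ = 0 := by
  obtain ⟨ξ, hξ, hind, hmult⟩ := Cfsg.Agent.S0854.result M ϑ hϑ T
    (fun g => (hT g).trans ⟨fun h n => congrFun h n, fun h => funext h⟩) hMT χ hχ hover
  have hcl := char_isClassFunction (isCharacter_of_isIrr hχ)
  have hm : Cfsg.classInner (fun t : T => χ t) ξ = ((1 : ℕ) : ℂ) := by
    rw [← frobenius_reciprocity' T ξ hcl, hind, classInner_isIrr_self hχ, Nat.cast_one]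
  obtain ⟨Δ, hΔ, he⟩ := Basics.eq_smul_of_degree
    (isCharacter_restrict T (isCharacter_of_isIrr hχ)) hξ hm
  rw [Nat.cast_one, one_smul] at he
  refine ⟨ξ, Δ, hξ, hΔ, hind, he, by rw [hmult]; exact hover, ?_⟩
  have h : (fun n : M => χ n) =
      (fun n : M => ξ ⟨n, hMT n.2⟩) + fun n : M => Δ ⟨n, hMT n.2⟩ :=
    funext fun n => congrFun he ⟨n, hMT n.2⟩
  have h2 := congrArg (fun F => Cfsg.classInner F ϑ) h
  simp only [classInner_add_left, hmult] at h2
  exact left_eq_add.1 h2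

variable {G : Type u} [Group G] {U : Type v} [Group U] (S : Setup G U)

namespace Setup

/-- The action on a stable subgroup. -/
noncomputable def acOn [Finite G] (P : Subgroup G) (hP : ∀ u g, g ∈ P → S.ac u g ∈ P) :
    U →* MulAut P :=
  MonoidHom.mk' (fun u => restrictAut P (S.ac u) fun x hx => hP u x hx) fun u v =>
    MulEquiv.ext fun x => Subtype.ext (by
      show S.ac (u * v) x = S.ac u (S.ac v x)
      simp [map_mul])

theorem acOn_coe [Finite G] (P : Subgroup G) (hP : ∀ u g, g ∈ P → S.ac u g ∈ P) (u : U) (x : P) :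
    ((S.acOn P hP u x : P) : G) = S.ac u x := rfl

/-- The setting inside a stable subgroup containing `H ∩ K`. -/
noncomputable def restrict [Finite G] (P : Subgroup G) (hP : ∀ u g, g ∈ P → S.ac u g ∈ P)
    (hN : S.N ≤ P) (hPK : ∀ k ∈ S.K, ∀ c, (∀ u, S.ac u c = c) → k * c ∈ P → k ∈ P) :
    Setup P U where
  ac := S.acOn P hP
  K := S.K.subgroupOf P
  H := S.H.subgroupOf P
  normalK := ⟨fun n hn g => S.normalK.conj_mem _ hn g⟩
  normalN := ⟨fun n hn g => S.normalN.conj_mem _ hn g⟩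
  stK u k hk := S.stK u _ hk
  stH u h hh := S.stH u _ hh
  comm a ha b hb := S.comm _ ha _ hb
  fixH c hc := S.fixH _ fun u => congrArg Subtype.val (hc u)
  genG g := by
    obtain ⟨k, hk, c, hc, hg⟩ := S.genG g
    have hkP : k ∈ P := hPK k hk c hc (hg ▸ g.2)
    have hcP : c ∈ P := by
      rw [show c = k⁻¹ * g by rw [hg, inv_mul_cancel_left]]
      exact P.mul_mem (P.inv_mem hkP) g.2
    exact ⟨⟨k, hkP⟩, hk, ⟨c, hcP⟩, fun u => Subtype.ext (hc u), Subtype.ext hg⟩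
  genH h hh := by
    obtain ⟨l, hl, c, hc, hg⟩ := S.genH h hh
    have hcP : c ∈ P := by
      rw [show c = l⁻¹ * h by rw [hg, inv_mul_cancel_left]]
      exact P.mul_mem (P.inv_mem (hN hl)) h.2
    exact ⟨⟨l, hN hl⟩, hl, ⟨c, hcP⟩, fun u => Subtype.ext (hc u), Subtype.ext hg⟩
  fpf k hk h := S.fpf _ hk h
  cop := S.cop.coprime_dvd_right (Subgroup.card_subgroup_dvd_card P)
  odd := S.odd.of_dvd_nat (Subgroup.card_subgroup_dvd_card P)

variable [Fintype G]

/-- Fixed elements commute with twisting. -/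
theorem twN_cbN_fixed {c : G} (hc : ∀ u, S.ac u c = c) (u : U) (f : S.N → ℂ) :
    S.twN u (S.cbN c f) = S.cbN c (S.twN u f) := by
  rw [S.twN_cbN, show (S.ac u).symm c = c from (MulEquiv.symm_apply_eq _).2 (hc u).symm]

theorem twN_one (f : S.N → ℂ) : S.twN 1 f = f :=
  funext fun x => congrArg f (Subtype.ext (show (S.ac 1) (x : G) = x by rw [map_one]; rfl))

/-- The stabiliser of a character of `H ∩ K`. -/
noncomputable def stab (φ : S.N → ℂ) : Subgroup G where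
  carrier := {g | S.cbN g φ = φ}
  one_mem' := S.cbN_one φ
  mul_mem' := fun {a b} (ha : S.cbN a φ = φ) (hb : S.cbN b φ = φ) => by
    show S.cbN (a * b) φ = φ
    rw [← S.cbN_cbN, ha, hb]
  inv_mem' := fun {a} (ha : S.cbN a φ = φ) => by
    show S.cbN a⁻¹ φ = φ
    conv_lhs => rw [← ha]
    rw [S.cbN_cbN, mul_inv_cancel, S.cbN_one]

theorem mem_stab {φ : S.N → ℂ} {g : G} : g ∈ S.stab φ ↔ S.cbN g φ = φ := Iff.rfl

theorem stab_stable {φ : S.N → ℂ} (hU : ∀ u, S.twN u φ = φ) (u : U) (g : G) (hg : g ∈ S.stab φ) :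
    S.ac u g ∈ S.stab φ := by
  rw [mem_stab] at hg ⊢
  have h := congrArg (S.twN u⁻¹) hg
  rw [S.twN_cbN, hU, map_inv] at h
  exact h

theorem N_le_stab {φ : S.N → ℂ} (hφ : Cfsg.IsIrrCharacter S.N φ) : S.N ≤ S.stab φ :=
  fun _ hg => S.cbN_of_mem hg (char_isClassFunction (isCharacter_of_isIrr hφ))

variable [Finite U]

theorem stab_split {φ : S.N → ℂ} (hφ : Cfsg.IsIrrCharacter S.N φ) (hU : ∀ u, S.twN u φ = φ)
    (k : G) (hk : k ∈ S.K) (c : G) (hc : ∀ u, S.ac u c = c) (hkc : k * c ∈ S.stab φ) :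
    k ∈ S.stab φ := by
  rw [mem_stab, ← S.cbN_cbN] at hkc
  have h : S.cbN k φ = S.cbN c⁻¹ φ := by
    conv_rhs => rw [← hkc]
    rw [S.cbN_cbN c⁻¹ c, mul_inv_cancel, S.cbN_one]
  refine S.fixed_conj_unique (char_isClassFunction (isCharacter_of_isIrr hφ)) hU (k := ⟨k, hk⟩)
    fun u => ?_
  show S.twN u (S.cbN k φ) = S.cbN k φ
  rw [h, S.twN_cbN_fixed (fun u => by rw [map_inv, hc]), hU]

/-- The setting inside the stabiliser. -/
noncomputable def atStab {φ : S.N → ℂ} (hφ : Cfsg.IsIrrCharacter S.N φ)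
    (hU : ∀ u, S.twN u φ = φ) : Setup (S.stab φ) U :=
  S.restrict (S.stab φ) (S.stab_stable hU) (S.N_le_stab hφ) (S.stab_split hφ hU)

variable [Fintype S.N]

theorem overG_cbN {χ : G → ℂ} (hχ : Cfsg.IsClassFunction G χ) (g : G) {φ : S.N → ℂ}
    (h : S.OverG χ φ) : S.OverG χ (S.cbN g φ) := by
  haveI := S.normalN
  show Cfsg.classInner (fun x : S.N => χ x) (Clifford.conjBy S.N g φ) ≠ 0
  rw [Clifford.classInner_restrict_conjBy S.N hχ]
  exact h

theorem overH_cbN {ψ : S.H → ℂ} (hψ : Cfsg.IsClassFunction S.H ψ) (g : S.H) {φ : S.N → ℂ}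
    (h : S.OverH ψ φ) : S.OverH ψ (S.cbN g φ) := by
  haveI := S.normalN
  show Cfsg.classInner (fun x : S.N => ψ ⟨(x : G), x.2.1⟩) (Clifford.conjBy S.N (g : G) φ) ≠ 0
  conv in (fun x : S.N => ψ ⟨(x : G), x.2.1⟩) =>
    rw [show (fun x : S.N => ψ ⟨(x : G), x.2.1⟩) =
      Clifford.conjBy S.N (g : G) (fun x : S.N => ψ ⟨(x : G), x.2.1⟩) from
        funext fun x => (hψ ⟨(x : G), x.2.1⟩ g).symm]
  rw [Clifford.classInner_conjBy]
  exact h

/-- An invariant character of `G` lies over an invariant character of `H ∩ K`. -/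
theorem exists_fixed_underG [Fintype S.K] {χ : G → ℂ} (hχ : Cfsg.IsIrrCharacter G χ)
    (hinv : ∀ u g, χ (S.ac u g) = χ g) :
    ∃ φ : S.N → ℂ, Cfsg.IsIrrCharacter S.N φ ∧ (∀ u, S.twN u φ = φ) ∧ S.OverG χ φ := by
  classical
  haveI := S.normalK
  haveI := S.normalN
  haveI := Fintype.ofFinite S.NK
  obtain ⟨φ₁, hφ₁, hover⟩ := exists_constituent S.N hχ
  let ε : S.NK ≃* S.N :=
    { toFun := fun x => ⟨((x : S.K) : G), x.2, (x : S.K).2⟩
      invFun := fun y => ⟨⟨(y : G), y.2.2⟩, y.2.1⟩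
      left_inv := fun _ => rfl
      right_inv := fun _ => rfl
      map_mul' := fun _ _ => rfl }
  have hrestr : ∀ (f : S.K → ℂ) (φ : S.N → ℂ),
      Cfsg.classInner (fun x : S.NK => f x) (φ ∘ ε) =
        Cfsg.classInner (fun y : S.N => f ⟨(y : G), y.2.2⟩) φ := fun f φ => by
    rw [← Basics.classInner_comp_equiv ε (fun y : S.N => f ⟨(y : G), y.2.2⟩) φ]
    rfl
  have h0 : Cfsg.classInner (fun x : S.NK => χ ((x : S.K) : G)) (φ₁ ∘ ε) ≠ 0 := by
    rw [hrestr fun k : S.K => χ k]; exact hover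
  obtain ⟨θ, hθ, h1, h2⟩ := exists_constituent_over S.NK (Φ := fun k : S.K => χ k)
    (isCharacter_restrict S.K (isCharacter_of_isIrr hχ)) h0
  rw [hrestr] at h2
  have hθU := constituent_invariant S.ac S.cop S.K (fun u x hx => S.stK u x hx) S.genG hχ hinv hθ h1
  have horb : ∀ u, ∃ k : S.K, S.twN u φ₁ = S.cbN k φ₁ := by
    intro u
    have hu : Cfsg.classInner (fun x : S.NK => θ x) (S.twN u φ₁ ∘ ε) ≠ 0 := by
      rw [hrestr]
      have e : (fun y : S.N => θ ⟨(y : G), y.2.2⟩) =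
          tw S.N (S.ac u) (S.stN u) fun y : S.N => θ ⟨(y : G), y.2.2⟩ :=
        funext fun y => (congrFun (hθU u) ⟨(y : G), y.2.2⟩).symm
      rw [e, Setup.twN, classInner_tw]
      exact h2
    obtain ⟨k, hk⟩ := Clifford.exists_conjBy_eq S.NK hθ
      (Basics.isIrrCharacter_comp_equiv ε hφ₁)
      (Basics.isIrrCharacter_comp_equiv ε (tw_irr S.N (S.ac u) (S.stN u) hφ₁))
      (by rw [hrestr]; exact h2) hu
    exact ⟨k, funext fun y => (congrFun hk (ε.symm y)).symm⟩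
  obtain ⟨k, hk⟩ := S.exists_fixed_conj (char_isClassFunction (isCharacter_of_isIrr hφ₁)) horb
  exact ⟨S.cbN k φ₁, Clifford.isIrrCharacter_conjBy S.N (k : G) hφ₁, hk,
    S.overG_cbN (char_isClassFunction (isCharacter_of_isIrr hχ)) k hover⟩

/-- An invariant character of `H` lies only over invariant characters of `H ∩ K`. -/
theorem exists_fixed_underH [Fintype S.H] {ψ : S.H → ℂ} (hψ : Cfsg.IsIrrCharacter S.H ψ)
    (hinv : ∀ u (h : S.H), ψ ⟨S.ac u h, S.stH u h h.2⟩ = ψ h) :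
    ∃ φ : S.N → ℂ, Cfsg.IsIrrCharacter S.N φ ∧ (∀ u, S.twN u φ = φ) ∧ S.OverH ψ φ := by
  classical
  haveI hNn : (S.N.subgroupOf S.H).Normal := ⟨fun n hn g => S.normalN.conj_mem _ hn g⟩
  haveI := Fintype.ofFinite (S.N.subgroupOf S.H)
  let ε : S.N.subgroupOf S.H ≃* S.N :=
    { toFun := fun x => ⟨((x : S.H) : G), x.2⟩
      invFun := fun y => ⟨⟨(y : G), y.2.1⟩, y.2⟩
      left_inv := fun _ => rfl
      right_inv := fun _ => rfl
      map_mul' := fun _ _ => rfl }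
  obtain ⟨φ', hφ', hover⟩ := exists_constituent (S.N.subgroupOf S.H) hψ
  have hfix := constituent_invariant (S.acOn S.H (fun u g hg => S.stH u g hg))
    (S.cop.coprime_dvd_right (Subgroup.card_subgroup_dvd_card S.H)) (S.N.subgroupOf S.H)
    (fun u x hx => S.stN u _ hx) (fun h => by
      obtain ⟨l, hl, c, hc, he⟩ := S.genH h h.2
      exact ⟨⟨l, hl.1⟩, hl, ⟨c, S.fixH c hc⟩, fun u => Subtype.ext (hc u), Subtype.ext he⟩)
    hψ hinv hφ' hover
  refine ⟨φ' ∘ ε.symm, Basics.isIrrCharacter_comp_equiv ε.symm hφ', fun u => ?_, ?_⟩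
  · exact funext fun y => congrFun (hfix u) (ε.symm y)
  · show Cfsg.classInner ((fun x : S.N.subgroupOf S.H => ψ x) ∘ ε.symm) (φ' ∘ ε.symm) ≠ 0
    rw [Basics.classInner_comp_equiv]
    exact hover

/-- Invariant characters of `H ∩ K` under one character of `G` are conjugate by fixed points. -/
theorem orbitG {χ : G → ℂ} (hχ : Cfsg.IsIrrCharacter G χ) {φ φ' : S.N → ℂ}
    (hφ : Cfsg.IsIrrCharacter S.N φ) (hφ' : Cfsg.IsIrrCharacter S.N φ')
    (hU : ∀ u, S.twN u φ = φ) (hU' : ∀ u, S.twN u φ' = φ') (h : S.OverG χ φ)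
    (h' : S.OverG χ φ') : ∃ c, (∀ u, S.ac u c = c) ∧ S.cbN c φ = φ' := by
  haveI := S.normalN
  obtain ⟨g, hg⟩ := Clifford.exists_conjBy_eq S.N hχ hφ hφ' h h'
  obtain ⟨k, hk, c, hc, rfl⟩ := S.genG g
  change S.cbN (k * c) φ = φ' at hg
  refine ⟨c, hc, ?_⟩
  rw [← S.cbN_cbN] at hg
  have h1 : S.cbN k φ = S.cbN c⁻¹ φ' := by
    rw [← hg, S.cbN_cbN c⁻¹ c, mul_inv_cancel, S.cbN_one]
  have h2 : S.cbN k φ = φ :=
    S.fixed_conj_unique (char_isClassFunction (isCharacter_of_isIrr hφ)) hU (k := ⟨k, hk⟩)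
      fun u => by
        show S.twN u (S.cbN k φ) = S.cbN k φ
        rw [h1, S.twN_cbN_fixed (fun u => by rw [map_inv, hc]), hU']
  rwa [h2] at hg

end Setup

end Cfsg.Agent.BlocksChars.IsaacsOdd
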