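import Mathlib
import Cfsg.Agent.BlocksChars.IsaacsOdd.Orbit

/-!
# The correspondence in general, by Clifford theory
-/

set_option linter.style.haveILetI false
set_option linter.unusedSectionVars false

namespace Cfsg.Agent.BlocksChars.IsaacsOdd

open Cfsg.Agent.Characters Cfsg.Agent.CharTheory

universe u v

variable {G : Type u} [Group G] {U : Type v} [Group U] (S : Setup G U)

namespace Setup

variable [Fintype G] [Finite U] [Fintype S.K] [Fintype S.H] [Fintype S.N]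

/-- Twist-invariance. -/
def InvG (χ : G → ℂ) : Prop := ∀ u g, χ (S.ac u g) = χ g

/-- Twist-invariance, for `H`. -/
def InvH (ψ : S.H → ℂ) : Prop := ∀ u (h : S.H), ψ ⟨S.ac u h, S.stH u h h.2⟩ = ψ h

/-- The correspondence over a fixed character of `H ∩ K`. -/
theorem over_case {φ : S.N → ℂ} (hφ : Cfsg.IsIrrCharacter S.N φ) (hU : ∀ u, S.twN u φ = φ) :
    (∀ χ : G → ℂ, Cfsg.IsIrrCharacter G χ → S.InvG χ → S.OverG χ φ →
      ∃ ψ : S.H → ℂ, Cfsg.IsIrrCharacter S.H ψ ∧ S.InvH ψ ∧ S.OverH ψ φ ∧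
        OddCon (fun h : S.H => χ h) ψ ∧
        ∀ ψ', Cfsg.IsIrrCharacter S.H ψ' → S.OverH ψ' φ → OddCon (fun h : S.H => χ h) ψ' →
          ψ' = ψ) ∧
    (∀ χ χ' : G → ℂ, Cfsg.IsIrrCharacter G χ → Cfsg.IsIrrCharacter G χ' → S.InvG χ → S.InvG χ' →
      S.OverG χ φ → S.OverG χ' φ → ∀ ψ, Cfsg.IsIrrCharacter S.H ψ → S.OverH ψ φ →
      OddCon (fun h : S.H => χ h) ψ → OddCon (fun h : S.H => χ' h) ψ → χ = χ') ∧
    ∀ ψ, Cfsg.IsIrrCharacter S.H ψ → S.InvH ψ → S.OverH ψ φ →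
      ∃ χ : G → ℂ, Cfsg.IsIrrCharacter G χ ∧ S.InvG χ ∧ OddCon (fun h : S.H => χ h) ψ := by
  classical
  haveI := S.normalN
  set P := S.stab φ with hPdef
  let S' : Setup P U := S.atStab hφ hU
  haveI : (S.N.subgroupOf S.H).Normal := ⟨fun n hn g => S.normalN.conj_mem _ hn g⟩
  haveI := Fintype.ofFinite P
  haveI := Fintype.ofFinite S'.K
  haveI := Fintype.ofFinite S'.H
  haveI := Fintype.ofFinite S'.N
  haveI := Fintype.ofFinite (S.N.subgroupOf S.H)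
  haveI := Fintype.ofFinite (P.subgroupOf S.H)
  let ε : S'.N ≃* S.N :=
    { toFun := fun x => ⟨((x : P) : G), x.2⟩
      invFun := fun y => ⟨⟨(y : G), S.N_le_stab hφ y.2⟩, y.2⟩
      left_inv := fun _ => rfl
      right_inv := fun _ => rfl
      map_mul' := fun _ _ => rfl }
  let εH : S.N.subgroupOf S.H ≃* S.N :=
    { toFun := fun x => ⟨((x : S.H) : G), x.2⟩
      invFun := fun y => ⟨⟨(y : G), y.2.1⟩, y.2⟩
      left_inv := fun _ => rfl
      right_inv := fun _ => rfl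
      map_mul' := fun _ _ => rfl }
  let j : S'.H ≃* P.subgroupOf S.H :=
    { toFun := fun x => ⟨⟨((x : P) : G), x.2⟩, (x : P).2⟩
      invFun := fun y => ⟨⟨((y : S.H) : G), y.2⟩, (y : S.H).2⟩
      left_inv := fun _ => rfl
      right_inv := fun _ => rfl
      map_mul' := fun _ _ => rfl }
  set φ' : S'.N → ℂ := φ ∘ ε with hφ'def
  have hφ' : Cfsg.IsIrrCharacter S'.N φ' := Basics.isIrrCharacter_comp_equiv ε hφ
  have hU' : ∀ u, S'.twN u φ' = φ' := fun u => funext fun x => congrFun (hU u) (ε x)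
  have hG' : ∀ g, S'.cbN g φ' = φ' := fun g => funext fun x => congrFun g.2 (ε x)
  have hoverP : ∀ f : P → ℂ, S'.OverG f φ' ↔
      Cfsg.classInner (fun n : S.N => f ⟨n, S.N_le_stab hφ n.2⟩) φ ≠ 0 := fun f => by
    unfold OverG
    rw [hφ'def, ← Basics.classInner_comp_equiv ε (fun n : S.N => f ⟨n, S.N_le_stab hφ n.2⟩) φ]
    rfl
  have hoverPH : ∀ f : S'.H → ℂ, S'.OverH f φ' ↔
      Cfsg.classInner (fun n : S.N => f ⟨⟨n, S.N_le_stab hφ n.2⟩, n.2.1⟩) φ ≠ 0 := fun f => by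
    unfold OverH
    rw [hφ'def,
      ← Basics.classInner_comp_equiv ε (fun n : S.N => f ⟨⟨n, S.N_le_stab hφ n.2⟩, n.2.1⟩) φ]
    rfl
  -- the correspondents
  let CorrG : (G → ℂ) → (P → ℂ) → Prop := fun χ ξ =>
    Cfsg.IsIrrCharacter P ξ ∧ S'.OverG ξ φ' ∧ Cfsg.indFun P ξ = χ ∧
      Cfsg.classInner (fun t : P => χ t) ξ ≠ 0 ∧
      ∃ Δ : P → ℂ, Cfsg.IsCharacter P Δ ∧ ¬ S'.OverG Δ φ' ∧ (fun t : P => χ t) = ξ + Δ
  let CorrH : (S.H → ℂ) → (S'.H → ℂ) → Prop := fun ψ η =>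
    Cfsg.IsIrrCharacter S'.H η ∧ S'.OverH η φ' ∧
      Cfsg.indFun (P.subgroupOf S.H) (η ∘ j.symm) = ψ ∧
      ∀ η', Cfsg.IsIrrCharacter S'.H η' → S'.OverH η' φ' →
        Cfsg.classInner (fun x : S'.H => ψ ⟨((x : P) : G), x.2⟩) η' ≠ 0 → η' = η
  have exG : ∀ χ, Cfsg.IsIrrCharacter G χ → S.OverG χ φ → ∃ ξ, CorrG χ ξ := by
    intro χ hχ ho
    obtain ⟨ξ, Δ, hξ, hΔ, hind, he, ho1, ho2⟩ :=
      clifford_split S.N hφ P (fun g => Iff.rfl) (S.N_le_stab hφ) hχ ho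
    refine ⟨ξ, hξ, (hoverP ξ).2 ho1, hind, ?_, Δ, hΔ, fun h => (hoverP Δ).1 h ho2, he⟩
    rw [← frobenius_reciprocity' P ξ (char_isClassFunction (isCharacter_of_isIrr hχ)), hind,
      classInner_isIrr_self hχ]
    exact one_ne_zero
  have uniqG : ∀ χ ξ, CorrG χ ξ → ∀ ξ', Cfsg.IsIrrCharacter P ξ' → S'.OverG ξ' φ' →
      Cfsg.classInner (fun t : P => χ t) ξ' ≠ 0 → ξ' = ξ := by
    intro χ ξ hc ξ' hξ' ho hne
    obtain ⟨hξ, -, -, -, Δ, hΔ, hΔo, he⟩ := hc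
    by_contra hne'
    rw [he, classInner_add_left, classInner_isIrr_ne hξ hξ' (Ne.symm hne'), zero_add] at hne
    exact hΔo (Clifford.classInner_restrict_ne_zero S'.N hΔ hξ' (isCharacter_of_isIrr hφ') hne ho)
  have exH : ∀ ψ, Cfsg.IsIrrCharacter S.H ψ → S.OverH ψ φ → ∃ η, CorrH ψ η := by
    intro ψ hψ ho
    have hT : ∀ g : S.H, g ∈ P.subgroupOf S.H ↔
        Clifford.conjBy (S.N.subgroupOf S.H) g (φ ∘ εH) = φ ∘ εH := fun g =>
      ⟨fun h => funext fun x => congrFun (show S.cbN (g : G) φ = φ from h) (εH x),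
        fun h => funext fun y => congrFun h (εH.symm y)⟩
    have hto : ∀ f : S.H → ℂ, Cfsg.classInner (fun x : S.N.subgroupOf S.H => f x) (φ ∘ εH) =
        Cfsg.classInner (fun y : S.N => f ⟨(y : G), y.2.1⟩) φ := fun f => by
      rw [← Basics.classInner_comp_equiv εH (fun y : S.N => f ⟨(y : G), y.2.1⟩) φ]
      rfl
    have hle : S.N.subgroupOf S.H ≤ P.subgroupOf S.H := fun x hx => S.N_le_stab hφ hx
    obtain ⟨η₀, Δ, hη₀, hΔ, hind, he, ho1, ho2⟩ :=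
      clifford_split (S.N.subgroupOf S.H) (Basics.isIrrCharacter_comp_equiv εH hφ)
        (P.subgroupOf S.H) hT hle hψ (by rw [hto]; exact ho)
    have hto' : ∀ f : P.subgroupOf S.H → ℂ,
        Cfsg.classInner (fun x : S.N.subgroupOf S.H => f ⟨x, hle x.2⟩) (φ ∘ εH) =
          Cfsg.classInner (fun n : S.N => (f ∘ j) ⟨⟨n, S.N_le_stab hφ n.2⟩, n.2.1⟩) φ := fun f => by
      rw [← Basics.classInner_comp_equiv εH
        (fun n : S.N => (f ∘ j) ⟨⟨n, S.N_le_stab hφ n.2⟩, n.2.1⟩) φ]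
      rfl
    refine ⟨η₀ ∘ j, Basics.isIrrCharacter_comp_equiv j hη₀,
      (hoverPH _).2 (by rw [← hto']; exact ho1), ?_, fun η' hη' hoη hne => ?_⟩
    · rw [show (η₀ ∘ j) ∘ j.symm = η₀ from funext fun x => congrArg η₀ (j.apply_symm_apply x)]
      exact hind
    have hresψ : (fun x : S'.H => ψ ⟨((x : P) : G), x.2⟩) = η₀ ∘ j + Δ ∘ j :=
      funext fun x => congrFun he (j x)
    by_contra hne'
    rw [hresψ, classInner_add_left,
      classInner_isIrr_ne (Basics.isIrrCharacter_comp_equiv j hη₀) hη' (Ne.symm hne'), zero_add]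
      at hne
    have hΔ' : Cfsg.IsCharacter S'.H (Δ ∘ j) := isCharacter_comp j.toMonoidHom hΔ
    haveI := Fintype.ofFinite (S'.N.subgroupOf S'.H)
    let εP : S'.N.subgroupOf S'.H ≃* S'.N :=
      { toFun := fun x => ⟨((x : S'.H) : P), x.2⟩
        invFun := fun y => ⟨⟨(y : P), y.2.1⟩, y.2⟩
        left_inv := fun _ => rfl
        right_inv := fun _ => rfl
        map_mul' := fun _ _ => rfl }
    have h := Clifford.classInner_restrict_ne_zero (S'.N.subgroupOf S'.H) hΔ' hη'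
      (isCharacter_of_isIrr (Basics.isIrrCharacter_comp_equiv εP hφ')) hne (by
        rw [show (fun x : S'.N.subgroupOf S'.H => η' x) =
          (fun y : S'.N => η' ⟨(y : P), y.2.1⟩) ∘ εP from rfl, Basics.classInner_comp_equiv]
        exact hoη)
    rw [show (fun x : S'.N.subgroupOf S'.H => (Δ ∘ j) x) =
      (fun y : S'.N => (Δ ∘ j) ⟨(y : P), y.2.1⟩) ∘ εP from rfl, Basics.classInner_comp_equiv] at h
    exact (hoverPH _).1 h (by rw [← hto']; exact ho2)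
  have transfer : ∀ χ ξ ψ η, Cfsg.IsIrrCharacter G χ → CorrG χ ξ → CorrH ψ η →
      Cfsg.classInner (fun h : S.H => χ h) ψ = Cfsg.classInner (fun x : S'.H => ξ x) η := by
    intro χ ξ ψ η hχ hg hh
    obtain ⟨hξ, -, -, -, Δ, hΔ, hΔo, he⟩ := hg
    obtain ⟨hη, hηo, hind, -⟩ := hh
    rw [← hind, frobenius_reciprocity' _ _
      (classFun_restrict S.H (char_isClassFunction (isCharacter_of_isIrr hχ))),
      ← Basics.classInner_comp_equiv j,
      show (η ∘ j.symm) ∘ j = η from funext fun x => congrArg η (j.symm_apply_apply x),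
      show (fun y : P.subgroupOf S.H => χ ((y : S.H) : G)) ∘ j =
        (fun x : S'.H => ξ x) + fun x : S'.H => Δ x from funext fun x => congrFun he (x : P),
      classInner_add_left, add_eq_left]
    by_contra hne
    haveI := Fintype.ofFinite (S'.N.subgroupOf S'.H)
    let εP : S'.N.subgroupOf S'.H ≃* S'.N :=
      { toFun := fun x => ⟨((x : S'.H) : P), x.2⟩
        invFun := fun y => ⟨⟨(y : P), y.2.1⟩, y.2⟩
        left_inv := fun _ => rfl
        right_inv := fun _ => rfl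
        map_mul' := fun _ _ => rfl }
    have h := Clifford.classInner_restrict_ne_zero (S'.N.subgroupOf S'.H)
      (isCharacter_restrict S'.H hΔ) hη
      (isCharacter_of_isIrr (Basics.isIrrCharacter_comp_equiv εP hφ')) hne (by
        rw [show (fun x : S'.N.subgroupOf S'.H => η x) =
          (fun y : S'.N => η ⟨(y : P), y.2.1⟩) ∘ εP from rfl, Basics.classInner_comp_equiv]
        exact hηo)
    rw [show (fun x : S'.N.subgroupOf S'.H => Δ ((x : S'.H) : P)) =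
      (fun y : S'.N => Δ y) ∘ εP from rfl, Basics.classInner_comp_equiv] at h
    exact hΔo h
  have invξ : ∀ χ ξ, S.InvG χ → CorrG χ ξ → ∀ u g, ξ (S'.ac u g) = ξ g := by
    intro χ ξ hinv hc u
    refine congrFun (uniqG χ ξ hc (fun g => ξ (S'.ac u g))
      (Basics.isIrrCharacter_comp_equiv (S'.ac u) hc.1) ?_ ?_)
    · show Cfsg.classInner (S'.twN u fun y : S'.N => ξ y) φ' ≠ 0
      rw [← hU' u, Setup.twN, Setup.twN, classInner_tw]
      exact hc.2.1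
    · rw [show (fun t : P => χ t) = (fun t : P => χ t) ∘ S'.ac u from
        funext fun t => (hinv u (t : G)).symm]
      show Cfsg.classInner _ (ξ ∘ S'.ac u) ≠ 0
      rw [Basics.classInner_comp_equiv]
      exact hc.2.2.2.1
  obtain ⟨hmap, hinj, hsurj⟩ := S'.inv_case hφ' hG' hU'
  have hoverψ : ∀ ψ η, Cfsg.IsIrrCharacter S.H ψ → S'.OverH η φ' → Cfsg.IsIrrCharacter S'.H η →
      Cfsg.classInner (fun x : S'.H => ψ ⟨((x : P) : G), x.2⟩) η ≠ 0 → S.OverH ψ φ := by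
    intro ψ η hψ ho hη hne
    haveI := Fintype.ofFinite (S'.N.subgroupOf S'.H)
    let εP : S'.N.subgroupOf S'.H ≃* S'.N :=
      { toFun := fun x => ⟨((x : S'.H) : P), x.2⟩
        invFun := fun y => ⟨⟨(y : P), y.2.1⟩, y.2⟩
        left_inv := fun _ => rfl
        right_inv := fun _ => rfl
        map_mul' := fun _ _ => rfl }
    let i : S'.H →* S.H :=
      { toFun := fun x => ⟨((x : P) : G), x.2⟩, map_one' := rfl, map_mul' := fun _ _ => rfl }
    have h := Clifford.classInner_restrict_ne_zero (S'.N.subgroupOf S'.H)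
      (isCharacter_comp i (isCharacter_of_isIrr hψ)) hη
      (isCharacter_of_isIrr (Basics.isIrrCharacter_comp_equiv εP hφ')) hne (by
        rw [show (fun x : S'.N.subgroupOf S'.H => η x) =
          (fun y : S'.N => η ⟨(y : P), y.2.1⟩) ∘ εP from rfl, Basics.classInner_comp_equiv]
        exact ho)
    rw [show (fun x : S'.N.subgroupOf S'.H => (ψ ∘ i) x) =
      (fun y : S'.N => ψ ⟨((y : P) : G), y.2.1⟩) ∘ εP from rfl,
      Basics.classInner_comp_equiv] at h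
    unfold OverH
    rw [← Basics.classInner_comp_equiv ε (fun y : S.N => ψ ⟨(y : G), y.2.1⟩) φ]
    exact h
  refine ⟨fun χ hχ hinv ho => ?_, fun χ χ' hχ hχ' hi hi' ho ho' ψ hψ hψo hodd hodd' => ?_,
    fun ψ hψ hinv ho => ?_⟩
  · obtain ⟨ξ, hξc⟩ := exG χ hχ ho
    obtain ⟨η, hη, hηo, hodd, huη⟩ := hmap ξ hξc.1 (invξ χ ξ hinv hξc) hξc.2.1
    obtain ⟨ψ, hψ, hψover⟩ := exists_irr_over (P.subgroupOf S.H)
      (Basics.isIrrCharacter_comp_equiv j.symm hη)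
    have hne : Cfsg.classInner (fun x : S'.H => ψ ⟨((x : P) : G), x.2⟩) η ≠ 0 := by
      rw [← Basics.classInner_comp_equiv j] at hψover
      rw [show (η ∘ j.symm) ∘ j = η from funext fun x => congrArg η (j.symm_apply_apply x)]
        at hψover
      exact hψover
    have hψo := hoverψ ψ η hψ hηo hη hne
    obtain ⟨η₀, hc⟩ := exH ψ hψ hψo
    have hη₀ : η = η₀ := hc.2.2.2 η hη hηo hne
    have hoddψ : OddCon (fun h : S.H => χ h) ψ := by
      obtain ⟨n, hn, hnodd⟩ := hodd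
      exact ⟨n, by rw [transfer χ ξ ψ η₀ hχ hξc hc, ← hη₀, hn], hnodd⟩
    have huniq : ∀ ψ', Cfsg.IsIrrCharacter S.H ψ' → S.OverH ψ' φ →
        OddCon (fun h : S.H => χ h) ψ' → ψ' = ψ := by
      intro ψ' hψ' ho' hodd'
      obtain ⟨η', hc'⟩ := exH ψ' hψ' ho'
      obtain ⟨n, hn, hnodd⟩ := hodd'
      rw [transfer χ ξ ψ' η' hχ hξc hc'] at hn
      have := huη η' hc'.1 ⟨n, hn, hnodd⟩
      rw [← hc'.2.2.1, ← hc.2.2.1, this, hη₀]
    refine ⟨ψ, hψ, fun u h => ?_, hψo, hoddψ, huniq⟩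
    refine congrFun (huniq _ (tw_irr S.H (S.ac u) (S.stH u) hψ) ?_ ?_) h
    · show Cfsg.classInner (tw S.N (S.ac u) (S.stN u) fun y : S.N => ψ ⟨(y : G), y.2.1⟩) φ ≠ 0
      rw [← hU u, Setup.twN, classInner_tw]
      exact hψo
    · obtain ⟨n, hn, hnodd⟩ := hoddψ
      refine ⟨n, ?_, hnodd⟩
      rw [← hn]
      conv_lhs => rw [show (fun h : S.H => χ h) = tw S.H (S.ac u) (S.stH u) (fun h : S.H => χ h)
        from funext fun h => (hinv u (h : G)).symm]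
      rw [classInner_tw]
  · obtain ⟨η, hc⟩ := exH ψ hψ hψo
    obtain ⟨ξ, hg⟩ := exG χ hχ ho
    obtain ⟨ξ', hg'⟩ := exG χ' hχ' ho'
    obtain ⟨n, hn, hnodd⟩ := hodd
    obtain ⟨n', hn', hnodd'⟩ := hodd'
    rw [transfer χ ξ ψ η hχ hg hc] at hn
    rw [transfer χ' ξ' ψ η hχ' hg' hc] at hn'
    have := hinj ξ ξ' hg.1 hg'.1 (invξ χ ξ hi hg) (invξ χ' ξ' hi' hg') hg.2.1 hg'.2.1 η hc.1
      ⟨n, hn, hnodd⟩ ⟨n', hn', hnodd'⟩
    rw [← hg.2.2.1, ← hg'.2.2.1, this]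
  obtain ⟨η, hc⟩ := exH ψ hψ ho
  have hne : Cfsg.classInner (fun x : S'.H => ψ ⟨((x : P) : G), x.2⟩) η ≠ 0 := by
    have h : Cfsg.classInner ψ (Cfsg.indFun (P.subgroupOf S.H) (η ∘ j.symm)) = 1 := by
      rw [hc.2.2.1, classInner_isIrr_self hψ]
    rw [frobenius_reciprocity' _ _ (char_isClassFunction (isCharacter_of_isIrr hψ)),
      ← Basics.classInner_comp_equiv j,
      show (η ∘ j.symm) ∘ j = η from funext fun x => congrArg η (j.symm_apply_apply x)] at h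
    intro h0
    exact zero_ne_one (h0.symm.trans h)
  have hηinv : ∀ u (h : S'.H), η ⟨S'.ac u h, S'.stH u h h.2⟩ = η h := by
    intro u
    refine congrFun (hc.2.2.2 (tw S'.H (S'.ac u) (S'.stH u) η) (tw_irr _ _ _ hc.1) ?_ ?_)
    · show Cfsg.classInner (tw S'.N (S'.ac u) (S'.stN u) fun y : S'.N => η ⟨(y : P), y.2.1⟩) φ' ≠ 0
      rw [← hU' u, Setup.twN, classInner_tw]
      exact hc.2.1
    · rw [show (fun x : S'.H => ψ ⟨((x : P) : G), x.2⟩) =
        tw S'.H (S'.ac u) (S'.stH u) (fun x : S'.H => ψ ⟨((x : P) : G), x.2⟩) from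
          funext fun x => (hinv u ⟨((x : P) : G), x.2⟩).symm, classInner_tw]
      exact hne
  obtain ⟨ξ, hξ, hξinv, hξo, hodd⟩ := hsurj η hc.1 hηinv hc.2.1
  obtain ⟨χ, hχ, hover⟩ := exists_irr_over P hξ
  have hχo : S.OverG χ φ := by
    have h := Clifford.classInner_restrict_ne_zero S'.N
      (isCharacter_restrict P (isCharacter_of_isIrr hχ)) hξ (isCharacter_of_isIrr hφ') hover hξo
    exact (hoverP fun t : P => χ t).1 h
  obtain ⟨ξ', hg⟩ := exG χ hχ hχo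
  obtain rfl : ξ = ξ' := uniqG χ ξ' hg ξ hξ hξo hover
  refine ⟨χ, hχ, fun u g => ?_, ?_⟩
  · have hχu : Cfsg.IsIrrCharacter G (χ ∘ S.ac u) := Basics.isIrrCharacter_comp_equiv (S.ac u) hχ
    have hne' : Cfsg.classInner (fun t : P => (χ ∘ S.ac u) t) ξ ≠ 0 := by
      conv in ξ => rw [← show ξ ∘ S'.ac u = ξ from funext (hξinv u)]
      show Cfsg.classInner ((fun t : P => χ t) ∘ S'.ac u) (ξ ∘ S'.ac u) ≠ 0
      rw [Basics.classInner_comp_equiv]
      exact hg.2.2.2.1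
    have ho2 : S.OverG (χ ∘ S.ac u) φ :=
      (hoverP fun t : P => (χ ∘ S.ac u) t).1 (Clifford.classInner_restrict_ne_zero S'.N
        (isCharacter_restrict P (isCharacter_of_isIrr hχu)) hξ (isCharacter_of_isIrr hφ') hne' hξo)
    obtain ⟨ξ'', hg'⟩ := exG _ hχu ho2
    obtain rfl : ξ = ξ'' := uniqG _ ξ'' hg' ξ hξ hξo hne'
    exact congrFun (hg'.2.2.1.symm.trans hg.2.2.1) g
  · obtain ⟨n, hn, hnodd⟩ := hodd
    exact ⟨n, by rw [transfer χ ξ ψ η hχ hg hc, hn], hnodd⟩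

/-- The Isaacs correspondence. -/
theorem correspondence :
    (∀ χ : G → ℂ, Cfsg.IsIrrCharacter G χ → S.InvG χ →
      ∃ ψ : S.H → ℂ, (Cfsg.IsIrrCharacter S.H ψ ∧ S.InvH ψ ∧ OddCon (fun h : S.H => χ h) ψ) ∧
        ∀ ψ', Cfsg.IsIrrCharacter S.H ψ' → S.InvH ψ' → OddCon (fun h : S.H => χ h) ψ' → ψ' = ψ) ∧
    (∀ χ χ' : G → ℂ, Cfsg.IsIrrCharacter G χ → Cfsg.IsIrrCharacter G χ' → S.InvG χ → S.InvG χ' →
      ∀ ψ, Cfsg.IsIrrCharacter S.H ψ → S.InvH ψ → OddCon (fun h : S.H => χ h) ψ →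
        OddCon (fun h : S.H => χ' h) ψ → χ = χ') ∧
    ∀ ψ, Cfsg.IsIrrCharacter S.H ψ → S.InvH ψ →
      ∃ χ : G → ℂ, Cfsg.IsIrrCharacter G χ ∧ S.InvG χ ∧ OddCon (fun h : S.H => χ h) ψ := by
  classical
  have hup : ∀ (χ : G → ℂ) (ψ : S.H → ℂ) (φ : S.N → ℂ), Cfsg.IsIrrCharacter G χ →
      Cfsg.IsIrrCharacter S.H ψ → Cfsg.IsIrrCharacter S.N φ → OddCon (fun h : S.H => χ h) ψ →
      S.OverH ψ φ → S.OverG χ φ := by
    intro χ ψ φ hχ hψ hφ hodd ho
    obtain ⟨n, hn, hnodd⟩ := hodd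
    haveI := Fintype.ofFinite (S.N.subgroupOf S.H)
    let εH : S.N.subgroupOf S.H ≃* S.N :=
      { toFun := fun x => ⟨((x : S.H) : G), x.2⟩
        invFun := fun y => ⟨⟨(y : G), y.2.1⟩, y.2⟩
        left_inv := fun _ => rfl
        right_inv := fun _ => rfl
        map_mul' := fun _ _ => rfl }
    have h := Clifford.classInner_restrict_ne_zero (S.N.subgroupOf S.H)
      (isCharacter_restrict S.H (isCharacter_of_isIrr hχ)) hψ
      (isCharacter_of_isIrr (Basics.isIrrCharacter_comp_equiv εH hφ))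
      (by
        rw [hn]
        exact Nat.cast_ne_zero.2 fun h0 => by rw [h0] at hnodd; exact Nat.not_odd_zero hnodd)
      (by
        rw [show (fun x : S.N.subgroupOf S.H => ψ x) =
          (fun y : S.N => ψ ⟨(y : G), y.2.1⟩) ∘ εH from rfl, Basics.classInner_comp_equiv]
        exact ho)
    rw [show (fun x : S.N.subgroupOf S.H => χ ((x : S.H) : G)) =
      (fun y : S.N => χ y) ∘ εH from rfl, Basics.classInner_comp_equiv] at h
    exact h
  refine ⟨fun χ hχ hinv => ?_, fun χ χ' hχ hχ' hi hi' ψ hψ hψi hodd hodd' => ?_,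
    fun ψ hψ hinv => ?_⟩
  · obtain ⟨φ, hφ, hU, ho⟩ := S.exists_fixed_underG hχ hinv
    obtain ⟨ψ, hψ, hψi, -, hodd, huniq⟩ := (S.over_case hφ hU).1 χ hχ hinv ho
    refine ⟨ψ, ⟨hψ, hψi, hodd⟩, fun ψ' hψ' hψ'i hodd' => ?_⟩
    obtain ⟨φ', hφ', hU', ho'⟩ := S.exists_fixed_underH hψ' hψ'i
    obtain ⟨c, hc, hcφ⟩ := S.orbitG hχ hφ' hφ hU' hU (hup χ ψ' φ' hχ hψ' hφ' hodd' ho') ho
    refine huniq ψ' hψ' ?_ hodd'
    rw [← hcφ]
    exact S.overH_cbN (char_isClassFunction (isCharacter_of_isIrr hψ')) ⟨c, S.fixH c hc⟩ ho'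
  · obtain ⟨φ, hφ, hU, ho⟩ := S.exists_fixed_underH hψ hψi
    exact (S.over_case hφ hU).2.1 χ χ' hχ hχ' hi hi' (hup χ ψ φ hχ hψ hφ hodd ho)
      (hup χ' ψ φ hχ' hψ hφ hodd' ho) ψ hψ ho hodd hodd'
  · obtain ⟨φ, hφ, hU, ho⟩ := S.exists_fixed_underH hψ hinv
    exact (S.over_case hφ hU).2.2 ψ hψ hinv ho

end Setup

end Cfsg.Agent.BlocksChars.IsaacsOdd
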